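import Cfsg.Prelude.Def_HallClasses

/-!
# Pronormality criteria
-/

set_option autoImplicit false

namespace CfsgLib.KnownSimple51.Pronormal

open Pointwise

variable {G : Type*} [Group G]

lemma isPronormal_of_isCoatom {H : Subgroup G} (hH : H = ⊤ ∨ IsCoatom H) : Cfsg.IsPronormal H := by
  intro g
  by_cases heq : H.map (MulAut.conj g).toMonoidHom = H
  · refine ⟨1, Subgroup.one_mem _, ?_⟩
    rw [heq]
    conv_lhs => rw [← Subgroup.map_id H]
    congr 1
    ext x
    simp
  · refine ⟨g, ?_, rfl⟩
    rcases hH with rfl | hH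
    · exact Subgroup.mem_sup_left (Subgroup.mem_top g)
    · have hlt : H < H ⊔ H.map (MulAut.conj g).toMonoidHom := by
        refine lt_of_le_of_ne le_sup_left fun he => heq ?_
        have hle : H.map (MulAut.conj g).toMonoidHom ≤ H := le_sup_right.trans he.ge
        rcases hle.eq_or_lt with h | h
        · exact h
        · -- the conjugate is a coatom as well
          exfalso
          have hco : IsCoatom (H.map (MulAut.conj g).toMonoidHom) :=
            (OrderIso.isCoatom_iff ((MulAut.conj g).mapSubgroup) H).2 hH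
          exact hH.1 (hco.2 H h)
      rw [hH.2 _ hlt]
      exact Subgroup.mem_top g

variable {p : ℕ} [Fact p.Prime] [Finite G]

/-- A subgroup containing the normalizer of one of its Sylow subgroups, itself Sylow in `G`, is pronormal. -/
lemma isPronormal_of_normalizer_le {H : Subgroup G} (P : Sylow p G) (hPH : (P : Subgroup G) ≤ H)
    (hN : Subgroup.normalizer ((P : Subgroup G) : Set G) ≤ H) : Cfsg.IsPronormal H := by
  intro g
  set K := H ⊔ H.map (MulAut.conj g).toMonoidHom with hK
  have hPK : (P : Subgroup G) ≤ K := hPH.trans le_sup_left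
  have hPgK : ((g • P : Sylow p G) : Subgroup G) ≤ K := by
    rw [Sylow.coe_subgroup_smul]
    exact (Subgroup.map_mono hPH).trans le_sup_right
  obtain ⟨x, hx⟩ := MulAction.exists_smul_eq ↥K ((g • P).subtype hPgK) (P.subtype hPK)
  refine ⟨(x : G)⁻¹, inv_mem x.2, ?_⟩
  have hfix : ((x : G) * g) • P = P := by
    rw [mul_smul]
    apply Sylow.subtype_injective (N := K) (hP := ?_) (hQ := hPK)
    · rw [← hx, Sylow.smul_subtype]; rfl
  have hxg : (x : G) * g ∈ H := hN (Sylow.smul_eq_iff_mem_normalizer.1 hfix)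
  have hH : H.map (MulAut.conj ((x : G) * g)).toMonoidHom = H := Subgroup.map_conj_eq_self hxg
  calc H.map (MulAut.conj g).toMonoidHom
      = (H.map (MulAut.conj ((x : G) * g)).toMonoidHom).map (MulAut.conj (x : G)⁻¹).toMonoidHom := by
        rw [Subgroup.map_map]
        congr 1
        ext y
        simp [mul_assoc]
    _ = H.map (MulAut.conj (x : G)⁻¹).toMonoidHom := by rw [hH]
where
  Subgroup.map_conj_eq_self {G : Type _} [Group G] {H : Subgroup G} {h : G} (hh : h ∈ H) :
      H.map (MulAut.conj h).toMonoidHom = H := by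
    ext y
    refine ⟨?_, fun hy => ⟨h⁻¹ * y * h, mul_mem (mul_mem (inv_mem hh) hy) hh, by simp [mul_assoc]⟩⟩
    rintro ⟨z, hz, rfl⟩
    simpa using mul_mem (mul_mem hh hz) (inv_mem hh)

omit [Fact p.Prime] [Finite G] in
lemma exists_sylow_le_of_not_dvd_index [Fact p.Prime] [Finite G] {H : Subgroup G} (hH : ¬ p ∣ H.index) :
    ∃ P : Sylow p G, (P : Subgroup G) ≤ H := by
  obtain ⟨Q⟩ : Nonempty (Sylow p ↥H) := inferInstance
  obtain ⟨P, hP⟩ := (Q.isPGroup'.map H.subtype).exists_le_sylow
  refine ⟨P, le_of_eq_of_le (?_ : (P : Subgroup G) = (Q : Subgroup ↥H).map H.subtype) (Subgroup.map_subtype_le _)⟩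
  refine (Subgroup.eq_of_le_of_card_ge hP (le_of_eq ?_)).symm
  rw [Sylow.card_eq_multiplicity, Nat.card_congr ((Q : Subgroup ↥H).equivMapOfInjective _ H.subtype_injective).toEquiv.symm,
    Sylow.card_eq_multiplicity, ← H.card_mul_index, Nat.factorization_mul Nat.card_pos.ne' Subgroup.index_ne_zero_of_finite,
    Finsupp.add_apply, Nat.factorization_eq_zero_of_not_dvd hH, add_zero]

end CfsgLib.KnownSimple51.Pronormal
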