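import Cfsg.Agent.Lib.KnownSimple51.OrthTwoRank

/-!
# Orthogonal bases of the standard quadratic forms in odd characteristic
-/

set_option autoImplicit false

namespace CfsgLib.KnownSimple51.OrthFamilies

open QuadraticMap CfsgLib.OrthUnipotent CfsgLib.KnownSimple51.OrthTwoRank

variable {F : Type*} [Field F]

lemma two_ne_zero_of_odd [Fintype F] (hF : Odd (Fintype.card F)) : (2 : F) ≠ 0 := by
  intro h
  have hch : ringChar F = 2 := CharP.ringChar_of_prime_eq_zero Nat.prime_two (by exact_mod_cast h)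
  have := FiniteField.even_card_iff_char_two.1 hch
  rw [Nat.odd_iff] at hF
  omega

lemma exists_nonsquare [Fintype F] (h2 : (2 : F) ≠ 0) : ∃ d : F, ¬ IsSquare d :=
  FiniteField.exists_nonsquare fun hch => by
    have : CharP F 2 := ringChar.of_eq hch
    exact h2 CharTwo.two_eq_zero

/-- The vectors `e_i + f_i`, `e_i - f_i`. -/
def hypVec (n : ℕ) : Fin n ⊕ Fin n → (Fin n ⊕ Fin n → F) :=
  Sum.elim (fun i => Pi.single (.inl i) 1 + Pi.single (.inr i) 1)
    (fun i => Pi.single (.inl i) 1 - Pi.single (.inr i) 1)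

/-- Their values. -/
def hypVal (n : ℕ) : Fin n ⊕ Fin n → F := Sum.elim (fun _ => 1) (fun _ => -1)

lemma hypVal_prod (n : ℕ) : ∏ k, hypVal (F := F) n k = (-1) ^ n := by
  simp [hypVal, Fintype.prod_sum_type]

lemma hypVal_ne (n : ℕ) (k : Fin n ⊕ Fin n) : hypVal (F := F) n k ≠ 0 := by
  rcases k with k | k <;> simp [hypVal]

lemma hyp_coord (n : ℕ) (k : Fin n ⊕ Fin n) (i : Fin n) :
    (hypVec (F := F) n k (.inl i) = if Sum.elim id id k = i then 1 else 0) ∧
    (hypVec (F := F) n k (.inr i) = if Sum.elim id id k = i then hypVal n k else 0) := by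
  rcases k with k | k <;> by_cases h : k = i <;>
    simp [hypVec, hypVal, h, Ne.symm]

lemma hyp_Q (n : ℕ) (k : Fin n ⊕ Fin n) : Cfsg.quadFormPlus n F (hypVec n k) = hypVal n k := by
  simp [Cfsg.quadFormPlus, (hyp_coord n k _).1, (hyp_coord n k _).2]

lemma hyp_polar (n : ℕ) (k k' : Fin n ⊕ Fin n) (hk : k ≠ k') :
    polar (Cfsg.quadFormPlus n F) (hypVec n k) (hypVec n k') = 0 := by
  rw [polar_plus]
  refine Finset.sum_eq_zero fun i _ => ?_
  rw [(hyp_coord n k i).1, (hyp_coord n k i).2, (hyp_coord n k' i).1, (hyp_coord n k' i).2]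
  rcases k with k | k <;> rcases k' with k' | k' <;> by_cases h1 : k = i <;> by_cases h2 : k' = i <;>
    simp_all [hypVal]

theorem plus_basis (h2 : (2 : F) ≠ 0) (n : ℕ) :
    ∃ (b : Module.Basis (Fin n ⊕ Fin n) F (Fin n ⊕ Fin n → F)) (w : Fin n ⊕ Fin n → F),
      IsOrthBasis (qf (plus_nondeg (F := F) n)) b w ∧ ∏ i, w i = (-1) ^ n := by
  obtain ⟨b, e, hb⟩ := exists_orthBasis_of_family (Q := qf (plus_nondeg (F := F) n)) h2 rfl (hypVec n) (hypVal n)
    (hypVal_ne n) (fun i j hij => hyp_polar n i j hij) (hyp_Q n)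
  exact ⟨b, _, hb, by rw [Equiv.prod_comp e (hypVal n), hypVal_prod]⟩

theorem odd_basis (h2 : (2 : F) ≠ 0) (n : ℕ) :
    ∃ (b : Module.Basis (Unit ⊕ (Fin n ⊕ Fin n)) F (Unit ⊕ (Fin n ⊕ Fin n) → F))
      (w : Unit ⊕ (Fin n ⊕ Fin n) → F), IsOrthBasis (qf (odd_nondeg (F := F) n h2)) b w := by
  have horth : ∀ i j, i ≠ j → polar (qf (odd_nondeg (F := F) n h2)) ((Sum.elim (fun _ => Pi.single (.inl ()) 1) (fun k => Sum.elim 0 (hypVec n k)) : Unit ⊕ (Fin n ⊕ Fin n) → (Unit ⊕ (Fin n ⊕ Fin n) → F)) i) ((Sum.elim (fun _ => Pi.single (.inl ()) 1) (fun k => Sum.elim 0 (hypVec n k)) : Unit ⊕ (Fin n ⊕ Fin n) → (Unit ⊕ (Fin n ⊕ Fin n) → F)) j) = 0 := by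
    intro i j hij
    rw [qf_coe, polar_odd]
    rcases i with i | i <;> rcases j with j | j
    · exact absurd rfl hij
    · simp
    · simp
    · have := hyp_polar (F := F) n i j (fun h => hij (by rw [h]))
      rw [polar_plus] at this
      simpa using this
  have hval : ∀ k, (qf (odd_nondeg (F := F) n h2)) ((Sum.elim (fun _ => Pi.single (.inl ()) 1) (fun k => Sum.elim 0 (hypVec n k)) : Unit ⊕ (Fin n ⊕ Fin n) → (Unit ⊕ (Fin n ⊕ Fin n) → F)) k) = (Sum.elim (fun _ => (1 : F)) (hypVal n)) k := by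
    intro k
    rw [qf_coe]
    rcases k with k | k
    · simp [Cfsg.quadFormOdd]
    · have := hyp_Q (F := F) n k
      simpa [Cfsg.quadFormOdd, Cfsg.quadFormPlus] using this
  obtain ⟨b, e, hb⟩ := exists_orthBasis_of_family (Q := qf (odd_nondeg (F := F) n h2)) h2 rfl
    (Sum.elim (fun _ => Pi.single (.inl ()) 1) (fun k => Sum.elim 0 (hypVec n k)))
    (Sum.elim (fun _ => 1) (hypVal n))
    (fun k => by rcases k with k | k; exacts [one_ne_zero, hypVal_ne n k])
    horth hval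
  exact ⟨b, _, hb⟩

theorem minus_basis (h2 : (2 : F) ≠ 0) (m : ℕ) (a b : F)
    (hab : ∀ x y : F, x ^ 2 + a * x * y + b * y ^ 2 = 0 → x = 0 ∧ y = 0) :
    ∃ (B : Module.Basis ((Fin m ⊕ Fin m) ⊕ Fin 2) F ((Fin m ⊕ Fin m) ⊕ Fin 2 → F))
      (w : (Fin m ⊕ Fin m) ⊕ Fin 2 → F),
      IsOrthBasis (qf (minus_nondeg m a b h2 hab)) B w ∧ ∏ i, w i = (-1) ^ m * (b - a ^ 2 / 4) := by
  have h4 : (4 : F) ≠ 0 := by
    rw [show (4 : F) = 2 * 2 by norm_num]; exact mul_ne_zero h2 h2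
  have hδ : b - a ^ 2 / 4 ≠ 0 := by
    intro h
    have := (hab (-(a / 2)) 1 (by field_simp; field_simp at h; linear_combination h)).2
    exact one_ne_zero this
  let bin : Fin 2 → Fin 2 → F := ![![1, 0], ![-(a / 2), 1]]
  let val : Fin 2 → F := ![1, b - a ^ 2 / 4]
  have horth : ∀ i j, i ≠ j → polar (qf (minus_nondeg m a b h2 hab)) ((Sum.elim (fun k => Sum.elim (hypVec m k) 0) (fun t => Sum.elim 0 (bin t)) : (Fin m ⊕ Fin m) ⊕ Fin 2 → ((Fin m ⊕ Fin m) ⊕ Fin 2 → F)) i) ((Sum.elim (fun k => Sum.elim (hypVec m k) 0) (fun t => Sum.elim 0 (bin t)) : (Fin m ⊕ Fin m) ⊕ Fin 2 → ((Fin m ⊕ Fin m) ⊕ Fin 2 → F)) j) = 0 := by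
    intro i j hij
    rw [qf_coe, polar_minus]
    rcases i with i | i <;> rcases j with j | j
    · have := hyp_polar (F := F) m i j (fun h => hij (by rw [h]))
      rw [polar_plus] at this
      simpa using this
    · simp
    · simp
    · fin_cases i <;> fin_cases j <;> simp [bin] at hij ⊢ <;> field_simp <;> ring
  have hval : ∀ k, (qf (minus_nondeg m a b h2 hab)) ((Sum.elim (fun k => Sum.elim (hypVec m k) 0) (fun t => Sum.elim 0 (bin t)) : (Fin m ⊕ Fin m) ⊕ Fin 2 → ((Fin m ⊕ Fin m) ⊕ Fin 2 → F)) k) = (Sum.elim (hypVal m) val) k := by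
    intro k
    rw [qf_coe]
    rcases k with k | k
    · have := hyp_Q (F := F) m k
      simpa [Cfsg.quadFormMinus, Cfsg.quadFormPlus] using this
    · fin_cases k
      · simp [bin, val, Cfsg.quadFormMinus]
      · simp [bin, val, Cfsg.quadFormMinus]
        field_simp
        ring
  obtain ⟨B, e, hB⟩ := exists_orthBasis_of_family (Q := qf (minus_nondeg m a b h2 hab)) h2 rfl
    (Sum.elim (fun k => Sum.elim (hypVec m k) 0) (fun t => Sum.elim 0 (bin t)))
    (Sum.elim (hypVal m) val)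
    (fun k => by
      rcases k with k | k
      · exact hypVal_ne m k
      · fin_cases k
        · exact one_ne_zero
        · exact hδ)
    horth hval
  refine ⟨B, _, hB, ?_⟩
  rw [Equiv.prod_comp e (Sum.elim (hypVal m) val), Fintype.prod_sum_type]
  simp [val, hypVal, Fin.prod_univ_two]

variable [Fintype F]

lemma isSquare_neg_one_pow (h2 : (2 : F) ≠ 0) (n : ℕ) :
    IsSquare ((-1 : F) ^ n) ↔ Fintype.card F ^ n % 4 = 1 := by
  have hq : Fintype.card F % 2 = 1 := FiniteField.odd_card_of_char_ne_two fun h => by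
    have : CharP F 2 := ringChar.of_eq h
    exact h2 CharTwo.two_eq_zero
  rcases Nat.even_or_odd' n with ⟨k, rfl | rfl⟩
  · refine iff_of_true (by simp [pow_mul]) ?_
    rw [pow_mul, Nat.pow_mod, Nat.pow_mod (Fintype.card F) 2]
    have : Fintype.card F % 4 = 1 ∨ Fintype.card F % 4 = 3 := by omega
    rcases this with h | h <;> simp [h]
  · rw [pow_succ, pow_mul, neg_one_sq, one_pow, one_mul, FiniteField.isSquare_neg_one_iff, pow_succ,
      pow_mul, Nat.mul_mod, Nat.pow_mod, Nat.pow_mod (Fintype.card F) 2]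
    have : Fintype.card F % 4 = 1 ∨ Fintype.card F % 4 = 3 := by omega
    rcases this with h | h <;> simp [h]

lemma card_pow_mod_four (h2 : (2 : F) ≠ 0) (n : ℕ) :
    Fintype.card F ^ n % 4 = 1 ∨ Fintype.card F ^ n % 4 = 3 := by
  have hq : Fintype.card F % 2 = 1 := FiniteField.odd_card_of_char_ne_two fun h => by
    have : CharP F 2 := ringChar.of_eq h
    exact h2 CharTwo.two_eq_zero
  have : Fintype.card F ^ n % 2 = 1 := by rw [Nat.pow_mod, hq, one_pow, Nat.one_mod]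
  omega

lemma minus_disc (h2 : (2 : F) ≠ 0) (m : ℕ) (a b : F)
    (hab : ∀ x y : F, x ^ 2 + a * x * y + b * y ^ 2 = 0 → x = 0 ∧ y = 0) :
    IsSquare ((-1) ^ m * (b - a ^ 2 / 4)) ↔ ¬ IsSquare ((-1 : F) ^ (m + 1)) := by
  classical
  have h4 : (4 : F) ≠ 0 := by
    rw [show (4 : F) = 2 * 2 by norm_num]; exact mul_ne_zero h2 h2
  have he : ¬ IsSquare (a ^ 2 / 4 - b) := by
    rintro ⟨r, hr⟩
    have := (hab (r - a / 2) 1 (by field_simp; field_simp at hr; linear_combination -hr)).2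
    exact one_ne_zero this
  set t : F := a ^ 2 / 4 - b with ht
  have ht0 : t ≠ 0 := fun h => he (h ▸ IsSquare.zero)
  have hchar := quadraticChar_neg_one_iff_not_isSquare.2 he
  rw [show (-1 : F) ^ m * (b - a ^ 2 / 4) = (-1) ^ (m + 1) * t by rw [ht]; ring]
  have hm : ((-1 : F) ^ (m + 1)) ≠ 0 := pow_ne_zero _ (neg_ne_zero.2 one_ne_zero)
  rw [← quadraticChar_one_iff_isSquare (mul_ne_zero hm ht0), map_mul, hchar,
    ← quadraticChar_neg_one_iff_not_isSquare, mul_neg_one, neg_eq_iff_eq_neg]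

end CfsgLib.KnownSimple51.OrthFamilies
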