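import Cfsg.Agent.Lib.ChevStr.Parabolic

/-!
The centraliser of a highest root element in a Chevalley group, given a few checked properties of the
highest root.
-/

set_option autoImplicit false

namespace CfsgLib.KnownSimple51.LongRoot

open Cfsg.Lie CfsgLib.ChevStr
open scoped MatrixGroups

variable {D : ChevalleyDatum}

/-- The tabulated facts about the highest root `top` and the list `L`. -/
structure TopData (D : ChevalleyDatum) (top : Fin D.nroots) (L : List ℕ) : Prop where
  last : top.val + 1 = D.nroots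
  pos : D.IsPosRoot top
  centre : ∀ s : Fin D.nroots, D.IsPosRoot s ∨ s.val ∈ L →
    s.val ≠ D.neg top ∧ D.commTerms top s = []
  lt : ∀ s ∈ L, s < D.nroots
  nonneg : ∀ i : Fin D.rank, 0 ≤ D.cartan i.val top
  mem : ∀ i : Fin D.rank, D.cartan i.val top = 0 → D.neg (D.simple i.val) ∈ L
  single : ∃ i0 : Fin D.rank, ∀ k : Fin D.rank, D.cartan k.val top = if k = i0 then 1 else 0

variable {top : Fin D.nroots} {L : List ℕ} (hD : TopData D top L) {F : Type*} [Field F] (C : ChevCore D F)

/-- The candidate centraliser. -/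
def target (D : ChevalleyDatum) (F : Type*) [Field F] (L : List ℕ) : Subgroup (GL D.Idx F) :=
  D.posUnipotent F ⊔ Subgroup.closure {g : GL D.Idx F | ∃ s ∈ L, ∃ c : F, (g : Matrix D.Idx D.Idx F) = D.x F s c}

theorem mem_target_neg {s : ℕ} (hs : s ∈ L) (c : F) : C.xGL s c ∈ target D F L :=
  le_sup_right (a := D.posUnipotent F) (Subgroup.subset_closure ⟨s, hs, c, C.coe_xGL s c⟩)

theorem mem_target_pos {s : ℕ} (hs : D.IsPosRoot s) (c : F) : C.xGL s c ∈ target D F L :=
  le_sup_left (b := Subgroup.closure _) (C.xGL_mem_posUnipotent hs c)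

include hD in
theorem xGL_commute_top {s : ℕ} (hs : D.IsPosRoot s ∨ s ∈ L) (c a : F) :
    C.xGL s c * C.xGL top a = C.xGL top a * C.xGL s c := by
  have hsn : s < D.nroots := hs.elim (fun h => h.1) (hD.lt s)
  by_cases he : s = top.val
  · rw [he, ← C.xGL_add, ← C.xGL_add, add_comm]
  · obtain ⟨h1, h2⟩ := hD.centre ⟨s, hsn⟩ hs
    rw [C.xGL_comm top.isLt hsn he h1, ChevalleyDatum.commWord, h2, List.map_nil, C.wordGL_nil, mul_one]

include hD C in
theorem target_le : target D F L ≤ D.group F ⊓ Subgroup.centralizer {C.xGL top 1} := by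
  refine sup_le (C.posUnipotent_le fun r t hr => ⟨C.xGL_mem_group r t, ?_⟩) ((Subgroup.closure_le _).2 ?_)
  · show C.xGL r t ∈ Subgroup.centralizer {C.xGL top 1}
    rw [Subgroup.mem_centralizer_singleton_iff]
    exact (xGL_commute_top hD C (Or.inl hr) t 1)
  · rintro g ⟨s, hs, c, hg⟩
    rw [show g = C.xGL s c from Units.ext hg]
    refine ⟨C.xGL_mem_group s c, ?_⟩
    show C.xGL s c ∈ Subgroup.centralizer {C.xGL top 1}
    rw [Subgroup.mem_centralizer_singleton_iff]
    exact (xGL_commute_top hD C (Or.inr hs) c 1)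

/-- The nodes orthogonal to the highest root. -/
noncomputable def orthSet (D : ChevalleyDatum) (top : ℕ) : Finset (Fin D.rank) :=
  Finset.univ.filter fun i => D.cartan i.val top = 0

include hD C in
theorem stabilizer_weylSub : ∀ w ∈ C.hR.weyl, w top = top → w ∈ C.hR.weylSub (orthSet D top) := by
  suffices ∀ (m : ℕ) (w : Equiv.Perm (Fin D.nroots)), w ∈ C.hR.weyl → (C.hR.invSet w).card = m →
      w top = top → w ∈ C.hR.weylSub (orthSet D top) from fun w hw h => this _ w hw rfl h
  intro m
  induction m using Nat.strong_induction_on with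
  | _ m ih =>
    intro w hw hm hfix
    by_cases h0 : C.hR.invSet w = ∅
    · rw [C.hR.eq_one_of_invSet_eq_empty hw h0]; exact one_mem _
    obtain ⟨i, -, hi⟩ := C.hR.weylSub_exists_neg (J := Finset.univ)
      (by rw [C.hR.weylSub_univ]; exact hw) h0
    set p : Fin D.nroots := ⟨D.simple i.val, C.R.simple_lt i⟩
    have hα : C.R.α (C.hR.sPerm i top) = C.R.α top - D.cartan i.val top • C.R.α p := by
      rw [C.hR.sPerm_val, C.hR.α_refl i top.val top.isLt, C.R.α_simple i]
    have hi0 : D.cartan i.val top = 0 := by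
      by_contra hne
      have hA : 0 < D.cartan i.val top := lt_of_le_of_ne (hD.nonneg i) (Ne.symm hne)
      -- the image of the reflected root would lie above the highest root
      let φ : (Fin D.rank → ℤ) →+ (Fin D.rank → ℤ) :=
        { toFun := fun v => ∑ j : Fin D.rank, v j • C.R.α (w ⟨D.simple j.val, C.R.simple_lt j⟩)
          map_zero' := by simp
          map_add' := fun v u => by simp [add_smul, Finset.sum_add_distrib] }
      have hφ : ∀ s : Fin D.nroots, φ (C.R.α s) = C.R.α (w s) := fun s => (C.hR.α_weyl w hw s).symm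
      have h1 : C.R.α (w (C.hR.sPerm i top)) = C.R.α top - D.cartan i.val top • C.R.α (w p) := by
        rw [← hφ, hα, map_sub, map_zsmul, hφ, hφ, hfix]
      have hnp : D.IsPosRoot (D.neg (w p)) := (C.R.isPos_neg_iff (w p).isLt).2 hi
      have h2 := C.R.one_le_key_of_pos hnp
      rw [C.R.α_neg _ (w p).isLt] at h2
      have h3 := congrArg (keyHom D.rank) h1
      rw [map_sub, map_zsmul, smul_eq_mul] at h3
      have h4 : keyHom D.rank (C.R.α (w (C.hR.sPerm i top)).val) ≤ keyHom D.rank (C.R.α top.val) := by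
        by_contra hlt
        push Not at hlt
        simp only [keyHom_apply] at hlt
        have := (C.R.key_lt_iff top.isLt (w (C.hR.sPerm i top)).isLt).1 hlt
        have := (w (C.hR.sPerm i top)).isLt
        have := hD.last
        omega
      simp only [keyHom_apply] at h2 h3 h4
      rw [← keyHom_apply, map_neg, keyHom_apply] at h2
      nlinarith
    have hiJ : i ∈ orthSet D top := by simp [orthSet, hi0]
    have hs : C.hR.sPerm i ∈ C.hR.weylSub (orthSet D top) := C.hR.sPerm_mem_sub hiJ
    have hstop : C.hR.sPerm i top = top := by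
      refine Fin.ext (C.R.α_inj (C.hR.sPerm i top).isLt top.isLt ?_)
      rw [hα, hi0, zero_smul, sub_zero]
    have hc := C.hR.invSet_mul_sPerm_of_neg hw i hi
    have h1 := ih (C.hR.invSet (w * C.hR.sPerm i)).card (by omega) (w * C.hR.sPerm i)
      (mul_mem hw (C.hR.sPerm_mem i)) rfl (by rw [Equiv.Perm.mul_apply, hstop, hfix])
    have h2 := mul_mem h1 hs
    rwa [mul_assoc, show C.hR.sPerm i * C.hR.sPerm i = 1 from
      Equiv.Perm.ext fun s => C.hR.sPerm_sPerm i s, mul_one] at h2

include hD C in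
theorem exists_rep_target {w : Equiv.Perm (Fin D.nroots)} (hw : w ∈ C.hR.weylSub (orthSet D top)) :
    ∃ n ∈ target D F L, n ∈ D.monomialSubgroup F ∧ C.Acts n w := by
  refine C.hR.weylSub_induction (P := fun w => ∃ n ∈ target D F L,
    n ∈ D.monomialSubgroup F ∧ C.Acts n w) ⟨1, one_mem _, one_mem _, C.acts_one⟩ ?_ w hw
  rintro v - i hi - ⟨n, hn, hnN, hv⟩
  refine ⟨n * C.nS i, mul_mem hn ?_, mul_mem hnN (C.nS_mem_monomial i), ChevCore.Acts.mul C hv (C.acts_nS i)⟩
  refine Subgroup.list_prod_mem _ fun x hx => ?_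
  obtain ⟨q, hq, rfl⟩ := List.mem_map.1 hx
  simp only [ChevalleyDatum.nWord, List.mem_cons, List.not_mem_nil, or_false] at hq
  have hneg : D.neg (D.simple i.val) ∈ L := hD.mem i (by simpa [orthSet] using hi)
  rcases hq with rfl | rfl | rfl
  · exact mem_target_pos C (C.R.simple_pos i) _
  · exact mem_target_neg C hneg _
  · exact mem_target_pos C (C.R.simple_pos i) _

include hD C in
theorem torus_mem_target {c : Fin D.rank → Fˣ} (hc : C.R.torusChar c (C.R.α top) = 1) :
    C.R.torus c ∈ target D F L := by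
  classical
  obtain ⟨i0, hi0⟩ := hD.single
  have hci : c i0 = 1 := by
    rw [C.R.torusChar_root c top.isLt, Fintype.prod_eq_single i0] at hc
    · simpa [hi0] using hc
    · intro k hk; simp [hi0, hk]
  suffices c ∈ (target D F L).comap (C.R.torus (F := F)) from this
  refine Subgroup.pi_mem_of_mulSingle_mem _ fun i => ?_
  by_cases hi : i = i0
  · subst hi; rw [hci, Pi.mulSingle_one]; exact one_mem _
  show C.R.torusSingle i (c i) ∈ target D F L
  rw [← C.hGL_simple]
  refine Subgroup.list_prod_mem _ fun x hx => ?_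
  obtain ⟨q, hq, rfl⟩ := List.mem_map.1 hx
  simp only [ChevalleyDatum.hWord, ChevalleyDatum.nWord, List.cons_append, List.nil_append,
    List.mem_cons, List.not_mem_nil, or_false] at hq
  have hneg : D.neg (D.simple i.val) ∈ L := hD.mem i (by rw [hi0, if_neg hi])
  rcases hq with rfl | rfl | rfl | rfl | rfl | rfl <;>
    first
      | exact mem_target_pos C (C.R.simple_pos i) _
      | exact mem_target_neg C hneg _

include hD in
/-- The centraliser of the highest root element. -/
theorem centralizer_eq {t : GL D.Idx F} (ht : t = C.xGL top 1) :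
    D.group F ⊓ Subgroup.centralizer {t} = target D F L := by
  subst ht
  refine le_antisymm ?_ (target_le hD C)
  rintro g ⟨hg, hgc⟩
  have hcent : g * C.xGL top 1 = C.xGL top 1 * g := Subgroup.mem_centralizer_singleton_iff.1 hgc
  have hU : ∀ v ∈ D.posUnipotent F, ∀ a : F, v * C.xGL top a = C.xGL top a * v := by
    intro v hv a
    have hle : D.posUnipotent F ≤ Subgroup.centralizer {C.xGL top a} :=
      C.posUnipotent_le fun r t hr => Subgroup.mem_centralizer_singleton_iff.2 (xGL_commute_top hD C (Or.inl hr) t a)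
    exact Subgroup.mem_centralizer_singleton_iff.1 (hle hv)
  obtain ⟨w, hw, b, hb, n, hn, hnw, u, hu, rfl⟩ := C.normalForm_exists hg
  have huU : u ∈ D.posUnipotent F :=
    (C.Ucl_le fun r hr t => C.xGL_mem_posUnipotent (((C.hR.invRoots_closed hw)).1 r hr) t) hu
  obtain ⟨v, hv, c, rfl⟩ := C.mem_borel.1 hb
  obtain ⟨a, ha⟩ := hnw.2 top 1
  set χ : Fˣ := C.R.torusChar c (C.R.α top) with hχ
  have htx : C.R.torus c * C.xGL top (χ⁻¹ : Fˣ) = C.xGL top 1 * C.R.torus c := by
    have h := C.acts_torus c top (χ⁻¹ : Fˣ)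
    rw [← hχ, Units.mul_inv] at h
    rw [← h, inv_mul_cancel_right]
  have hkey : C.xGL (w top) a = C.xGL top (χ⁻¹ : Fˣ) := by
    have e1 : v * C.R.torus c * n * u * C.xGL top 1 = v * C.R.torus c * C.xGL (w top) a * (n * u) := by
      rw [← ha, mul_assoc (v * C.R.torus c * n), hU u huU 1]; group
    have e2 : C.xGL top 1 * (v * C.R.torus c * n * u) = v * C.R.torus c * C.xGL top (χ⁻¹ : Fˣ) * (n * u) := by
      rw [mul_assoc v (C.R.torus c) (C.xGL top (χ⁻¹ : Fˣ)), htx, ← mul_assoc v, hU v hv 1]; group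
    rw [e1, e2] at hcent
    exact mul_left_cancel (mul_right_cancel hcent)
  have hwtop : w top = top := by
    refine Fin.ext (C.root_eq_of_xGL_eq top.isLt (t := ((χ⁻¹ : Fˣ) : F)) (Units.ne_zero _) hkey.symm).symm
  obtain ⟨m, hm, hmN, hmact⟩ := exists_rep_target hD C (stabilizer_weylSub hD C w hw hwtop)
  have hd : n * m⁻¹ ∈ D.diagonalSubgroup F :=
    C.mem_diagonal_of_moves_one (mul_mem hn (inv_mem hmN))
      (by simpa using ChevCore.Moves.mul C hnw (ChevCore.Moves.inv C hmN (ChevCore.Acts.moves C hmact)))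
  rw [C.diagonalSubgroup_eq] at hd
  obtain ⟨c', hc'⟩ := hd
  have hu' : u ∈ target D F L := le_sup_left (b := Subgroup.closure _) huU
  have hv' : v ∈ target D F L := le_sup_left (b := Subgroup.closure _) hv
  have heq : v * C.R.torus c * n * u = v * C.R.torus (c * c') * (m * u) := by
    rw [map_mul, hc']; group
  rw [heq] at hgc ⊢
  refine mul_mem (mul_mem hv' ?_) (mul_mem hm hu')
  refine torus_mem_target hD C ?_
  have hT : C.R.torus (c * c') ∈ Subgroup.centralizer {C.xGL top 1} := by
    have h1 := (target_le hD C hv').2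
    have h2 := (target_le hD C (mul_mem hm hu')).2
    have := (Subgroup.centralizer {C.xGL top 1}).mul_mem ((Subgroup.centralizer {C.xGL top 1}).mul_mem
      ((Subgroup.centralizer {C.xGL top 1}).inv_mem h1) hgc) ((Subgroup.centralizer {C.xGL top 1}).inv_mem h2)
    rwa [show v⁻¹ * (v * C.R.torus (c * c') * (m * u)) * (m * u)⁻¹ = C.R.torus (c * c') by group] at this
  have h3 := C.acts_torus (c * c') top 1
  rw [Subgroup.mem_centralizer_singleton_iff.1 hT, mul_inv_cancel_right, mul_one] at h3
  have h4 : (C.R.torusChar (c * c') (C.R.α top) : F) - 1 = 0 := by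
    refine (C.xGL_eq_one_iff top.isLt).1 ?_
    rw [sub_eq_add_neg, C.xGL_add, ← h3, ← C.xGL_inv, mul_inv_cancel]
  exact Units.ext (sub_eq_zero.1 h4)

end CfsgLib.KnownSimple51.LongRoot
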