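import Mathlib

/-!
# Elementary abelian 2-groups of linear maps in characteristic not two are diagonal
-/

set_option autoImplicit false

namespace CfsgLib.KnownSimple51.SignBasis

variable {F : Type*} [Field F] {V : Type*} [AddCommGroup V] [Module F V]

/-- The sign `±1` in the field. -/
def sgn (F : Type*) [Field F] (e : ℤˣ) : F := ((e : ℤ) : F)

lemma sgn_one : sgn F 1 = 1 := by simp [sgn]

lemma sgn_neg_one : sgn F (-1) = -1 := by simp [sgn]

lemma sgn_mul (e e' : ℤˣ) : sgn F (e * e') = sgn F e * sgn F e' := by simp [sgn]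

lemma sgn_mul_self (e : ℤˣ) : sgn F e * sgn F e = 1 := by
  rcases Int.units_eq_one_or e with rfl | rfl <;> simp [sgn]

lemma sgn_injective (h2 : (2 : F) ≠ 0) : Function.Injective (sgn F) := by
  intro e e' h
  rcases Int.units_eq_one_or e with rfl | rfl <;> rcases Int.units_eq_one_or e' with rfl | rfl <;>
    simp [sgn] at h ⊢
  · exact h2 (by linear_combination h)
  · exact h2 (by linear_combination -h)

lemma sgn_prod {ι : Type*} (s : Finset ι) (f : ι → ℤˣ) : sgn F (∏ i ∈ s, f i) = ∏ i ∈ s, sgn F (f i) := by
  simp [sgn, Units.coe_prod]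

variable (h2 : (2 : F) ≠ 0)
include h2

/-- Common eigenvectors span. -/
lemma span_common (S : Finset (Module.End F V)) (hcomm : ∀ a ∈ S, ∀ b ∈ S, Commute a b)
    (hinv : ∀ a ∈ S, a * a = 1) :
    Submodule.span F {v : V | ∀ a ∈ S, a v = v ∨ a v = -v} = ⊤ := by
  classical
  induction S using Finset.induction_on with
  | empty => simp
  | insert a S ha ih =>
    have ih' := ih (fun x hx y hy => hcomm x (Finset.mem_insert_of_mem hx) y (Finset.mem_insert_of_mem hy))
      (fun x hx => hinv x (Finset.mem_insert_of_mem hx))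
    rw [eq_top_iff, ← ih', Submodule.span_le]
    intro v hv
    have haa : a (a v) = v := LinearMap.congr_fun (hinv a (Finset.mem_insert_self a S)) v
    have hmem : ∀ e : ℤˣ, v + sgn F e • a v ∈ Submodule.span F {v : V | ∀ b ∈ insert a S, b v = v ∨ b v = -v} := by
      intro e
      refine Submodule.subset_span fun b hb => ?_
      rcases Finset.mem_insert.1 hb with rfl | hb'
      · rcases Int.units_eq_one_or e with rfl | rfl
        · left; simp [sgn_one, haa, add_comm]
        · right; simp [sgn_neg_one, haa, sub_eq_add_neg, add_comm]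
      · have hc : b (a v) = a (b v) :=
          LinearMap.congr_fun (hcomm b hb a (Finset.mem_insert_self a S)).eq v
        rcases hv b hb' with h | h
        · left; rw [map_add, map_smul, hc, h]
        · right; rw [map_add, map_smul, hc, h, map_neg, smul_neg, neg_add]
    have : v = (2 : F)⁻¹ • ((v + sgn F 1 • a v) + (v + sgn F (-1) • a v)) := by
      rw [sgn_one, sgn_neg_one, one_smul, neg_one_smul,
        show v + a v + (v + -(a v)) = (2 : F) • v by rw [two_smul]; abel, smul_smul, inv_mul_cancel₀ h2, one_smul]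
    rw [SetLike.mem_coe, this]
    exact Submodule.smul_mem _ _ (Submodule.add_mem _ (hmem 1) (hmem (-1)))

/-- An elementary abelian 2-group of linear maps has a basis of common eigenvectors. -/
theorem exists_sign_basis [FiniteDimensional F V] {A : Type*} [Group A] [Finite A]
    (hcomm : ∀ a b : A, a * b = b * a) (hsq : ∀ a : A, a * a = 1) (ρ : A →* Module.End F V)
    {ι : Type*} [Fintype ι] (hι : Fintype.card ι = Module.finrank F V) :
    ∃ (b : Module.Basis ι F V) (s : ι → A →* ℤˣ), ∀ a i, ρ a (b i) = sgn F (s i a) • b i := by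
  classical
  letI := Fintype.ofFinite A
  have hspan := span_common h2 (Finset.univ.image ρ)
    (by
      simp only [Finset.mem_image, Finset.mem_univ, true_and]
      rintro _ ⟨a, rfl⟩ _ ⟨b, rfl⟩
      rw [commute_iff_eq, ← map_mul, hcomm, map_mul])
    (by
      simp only [Finset.mem_image, Finset.mem_univ, true_and]
      rintro _ ⟨a, rfl⟩
      rw [← map_mul, hsq, map_one])
  let b₀ := Module.Basis.ofSpan (K := F) hspan.ge
  haveI := FiniteDimensional.fintypeBasisIndex b₀
  have e := Fintype.equivOfCardEq (hι.trans (Module.finrank_eq_card_basis b₀))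
  let b := b₀.reindex e.symm
  have hb : ∀ a i, ρ a (b i) = b i ∨ ρ a (b i) = -(b i) := fun a i => by
    have h := Module.Basis.ofSpan_subset (K := F) hspan.ge ⟨e i, rfl⟩
    have hbi : b i = b₀ (e i) := by simp [b]
    rw [hbi]
    exact h (ρ a) (Finset.mem_image_of_mem ρ (Finset.mem_univ a))
  have hex : ∀ a i, ∃ ε : ℤˣ, ρ a (b i) = sgn F ε • b i := fun a i => by
    rcases hb a i with h | h
    · exact ⟨1, by rw [sgn_one, one_smul, h]⟩
    · exact ⟨-1, by rw [sgn_neg_one, neg_one_smul, h]⟩
  choose s hs using hex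
  have huniq : ∀ i (ε ε' : ℤˣ), sgn F ε • b i = sgn F ε' • b i → ε = ε' := fun i ε ε' h =>
    sgn_injective h2 (smul_left_injective F (b.ne_zero i) h)
  refine ⟨b, fun i => { toFun := fun a => s a i, map_one' := ?_, map_mul' := ?_ }, fun a i => hs a i⟩
  · apply huniq i
    rw [← hs, map_one, sgn_one, one_smul]
    rfl
  · intro x y
    apply huniq i
    rw [← hs, map_mul, Module.End.mul_apply, hs, map_smul, hs, smul_smul, sgn_mul, mul_comm]

omit h2 in
lemma injective_signs {A : Type*} [Group A] {ι : Type*} (b : Module.Basis ι F V) (s : ι → A →* ℤˣ)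
    {ρ : A →* Module.End F V} (hρ : Function.Injective ρ) (hs : ∀ a i, ρ a (b i) = sgn F (s i a) • b i) :
    Function.Injective (fun a i => s i a) := fun a a' h =>
  hρ (b.ext fun i => by
    have h' : s i a = s i a' := congrFun h i
    rw [hs, hs, h'])

omit h2 in
lemma det_eq_prod {A : Type*} [Group A] {ι : Type*} [Fintype ι] (b : Module.Basis ι F V) (s : ι → A →* ℤˣ)
    (ρ : A →* Module.End F V) (hs : ∀ a i, ρ a (b i) = sgn F (s i a) • b i) (a : A) :
    LinearMap.det (ρ a) = sgn F (∏ i, s i a) := by
  classical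
  rw [← LinearMap.det_toMatrix b,
    show LinearMap.toMatrix b b (ρ a) = Matrix.diagonal (fun i => sgn F (s i a)) by
      ext i j
      rw [LinearMap.toMatrix_apply, hs, map_smul]
      by_cases h : i = j
      · subst h; simp
      · simp [Finsupp.single_apply, h, Ne.symm h],
    Matrix.det_diagonal, sgn_prod]

end CfsgLib.KnownSimple51.SignBasis
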