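import Cfsg.Prelude.Def_EvenType

/-!
# Groups of sign vectors and 2-rank bookkeeping
-/

set_option autoImplicit false

namespace CfsgLib.KnownSimple51.SignVectors

/-- The product of all entries of a sign vector. -/
def prodHom (ι : Type*) [Fintype ι] : (ι → ℤˣ) →* ℤˣ where
  toFun f := ∏ i, f i
  map_one' := by simp
  map_mul' f g := by simp [Finset.prod_mul_distrib]

lemma prodHom_apply {ι : Type*} [Fintype ι] (f : ι → ℤˣ) : prodHom ι f = ∏ i, f i := rfl

lemma mem_ker {ι : Type*} [Fintype ι] {f : ι → ℤˣ} : f ∈ (prodHom ι).ker ↔ ∏ i, f i = 1 := Iff.rfl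

lemma card_signs (ι : Type*) [Fintype ι] : Nat.card (ι → ℤˣ) = 2 ^ Fintype.card ι := by
  simp [Nat.card_fun]

lemma card_ker (ι : Type*) [Fintype ι] : Nat.card (prodHom ι).ker = 2 ^ (Fintype.card ι - 1) := by
  classical
  rcases isEmpty_or_nonempty ι with h | ⟨⟨i⟩⟩
  · rw [Fintype.card_eq_zero, Nat.zero_sub, pow_zero, Nat.card_eq_one_iff_unique]
    exact ⟨⟨fun a b => Subtype.ext (Subsingleton.elim _ _)⟩, inferInstance⟩
  · have hs : Function.Surjective (prodHom ι) := fun e => ⟨Pi.mulSingle i e, by simp [prodHom_apply]⟩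
    have h := (prodHom ι).ker.card_mul_index
    rw [Subgroup.index_ker, MonoidHom.range_eq_top.2 hs, Subgroup.card_top, card_signs] at h
    have h2 : Nat.card ℤˣ = 2 := by simp
    rw [h2] at h
    have hp : 0 < Fintype.card ι := Fintype.card_pos_iff.2 ⟨i⟩
    obtain ⟨k, hk⟩ : ∃ k, Fintype.card ι = k + 1 := ⟨_, (Nat.succ_pred_eq_of_pos hp).symm⟩
    rw [hk, pow_succ] at h
    simpa [hk] using h

/-- An injected elementary abelian 2-group bounds the 2-rank from below. -/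
lemma pRankAtLeast_of_injective {G X : Type*} [Group G] [CommGroup X] (φ : X →* G)
    (hφ : Function.Injective φ) (hX : ∀ x : X, x ^ 2 = 1) {k : ℕ} (hk : 2 ^ k ≤ Nat.card X) :
    Cfsg.PRankAtLeast 2 k G := by
  refine ⟨φ.range, ?_, ?_, ?_⟩
  · refine ⟨⟨?_⟩⟩
    rintro ⟨_, x, rfl⟩ ⟨_, y, rfl⟩
    exact Subtype.ext (by simp [← map_mul, mul_comm x y])
  · rintro _ ⟨x, rfl⟩
    rw [← map_pow, hX, map_one]
  · rw [Nat.card_congr (MonoidHom.ofInjective hφ).toEquiv.symm]
    exact hk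

lemma sign_pow_two {ι : Type*} (f : ι → ℤˣ) : f ^ 2 = 1 := funext fun i => Int.units_sq (f i)

lemma ker_pow_two {ι : Type*} [Fintype ι] (f : (prodHom ι).ker) : f ^ 2 = 1 :=
  Subtype.ext (sign_pow_two f.1)

end CfsgLib.KnownSimple51.SignVectors
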