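import Cfsg.Prelude.Def_EvenType
import Cfsg.Agent.Lib.Orth.Omega
import Cfsg.Agent.Lib.Maximal99.OrthUnipotent
import Cfsg.Agent.Lib.QuadFin.Gram
import Cfsg.Agent.Lib.KnownSimple51.SignBasis
import Cfsg.Agent.Lib.KnownSimple51.SignVectors

/-!
# The 2-rank of `Ω(Q)` in odd characteristic
-/

set_option autoImplicit false

namespace CfsgLib.KnownSimple51.OrthTwoRank

open QuadraticMap CfsgLib.Orth CfsgLib.KnownSimple51.SignBasis CfsgLib.KnownSimple51.SignVectors

variable {ι : Type} [Fintype ι] [DecidableEq ι] {F : Type*} [Field F] [Fintype F]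
  (Q : QuadraticForm F (ι → F))

/-- An orthogonal basis with prescribed values. -/
def IsOrthBasis (b : Module.Basis ι F (ι → F)) (w : ι → F) : Prop :=
  (∀ i j, i ≠ j → polar Q (b i) (b j) = 0) ∧ ∀ i, Q (b i) = w i

variable {Q}

omit [Fintype F] in
lemma polar_sum_smul (x : ι → F) {κ : Type*} (s : Finset κ) (c : κ → F) (v : κ → ι → F) :
    polar Q x (∑ i ∈ s, c i • v i) = ∑ i ∈ s, c i * polar Q x (v i) := by
  classical
  induction s using Finset.induction_on with
  | empty => simp
  | insert a s ha ih => rw [Finset.sum_insert ha, Finset.sum_insert ha, polar_add_right, polar_smul_right, ih, smul_eq_mul]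

omit [Fintype F] in
lemma IsOrthBasis.value {b : Module.Basis ι F (ι → F)} {w : ι → F} (h : IsOrthBasis Q b w) (c : ι → F) :
    Q (∑ i, c i • b i) = ∑ i, w i * c i ^ 2 := by
  suffices hs : ∀ s : Finset ι, Q (∑ i ∈ s, c i • b i) = ∑ i ∈ s, w i * c i ^ 2 from hs _
  intro s
  induction s using Finset.induction_on with
  | empty => simp
  | insert a s ha ih =>
    rw [Finset.sum_insert ha, Finset.sum_insert ha, QuadraticMap.map_add ⇑Q, ih, QuadraticMap.map_smul, h.2,
      polar_smul_left, polar_sum_smul]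
    have hz : ∑ i ∈ s, c i * polar Q (b a) (b i) = 0 :=
      Finset.sum_eq_zero fun i hi => by rw [h.1 a i (fun e => ha (e ▸ hi)), mul_zero]
    rw [hz]
    simp
    ring

omit [Fintype F] in
lemma IsOrthBasis.polar_self {b : Module.Basis ι F (ι → F)} {w : ι → F} (h : IsOrthBasis Q b w) (i : ι) :
    polar Q (b i) (b i) = 2 * w i := by
  rw [polar_self', h.2]

omit [Fintype F] in
lemma IsOrthBasis.gram_det {b : Module.Basis ι F (ι → F)} {w : ι → F} (h : IsOrthBasis Q b w) :
    LinearMap.det b.equivFun.symm.toLinearMap ^ 2 * (CfsgLib.QuadFin.gram ⇑Q).det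
      = 2 ^ Fintype.card ι * ∏ i, w i := by
  rw [← CfsgLib.QuadFin.gram_det_comp,
    show (fun v => Q (b.equivFun.symm v)) = (fun v => ∑ i, w i * v i ^ 2) from
      funext fun v => by rw [Module.Basis.equivFun_symm_apply, h.value],
    CfsgLib.QuadFin.gram_diag, Matrix.det_diagonal, Finset.prod_mul_distrib, Finset.prod_const,
    Finset.card_univ]

omit [Fintype F] in
/-- An orthogonal family of full size with nonzero values is an orthogonal basis. -/
lemma exists_orthBasis_of_family (h2 : (2 : F) ≠ 0) {κ : Type*} [Fintype κ]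
    (hκ : Fintype.card κ = Fintype.card ι) (v : κ → ι → F) (w : κ → F) (hw : ∀ k, w k ≠ 0)
    (horth : ∀ i j, i ≠ j → polar Q (v i) (v j) = 0) (hval : ∀ k, Q (v k) = w k) :
    ∃ (b : Module.Basis ι F (ι → F)) (e : ι ≃ κ), IsOrthBasis Q b (fun i => w (e i)) := by
  classical
  let e : ι ≃ κ := Fintype.equivOfCardEq hκ.symm
  have hind : LinearIndependent F (fun i => v (e i)) := by
    rw [Fintype.linearIndependent_iff]
    intro c hc j
    have h := congrArg (fun x => polar Q (v (e j)) x) hc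
    simp only [polar_sum_smul, polar_zero_right] at h
    rw [Finset.sum_eq_single j (fun i _ hij => by rw [horth _ _ (fun he => hij (e.injective he).symm), mul_zero])
      (fun hj => absurd (Finset.mem_univ j) hj), polar_self', hval] at h
    exact (mul_eq_zero.1 h).resolve_right (mul_ne_zero h2 (hw _))
  cases isEmpty_or_nonempty ι with
  | inl he => exact ⟨Pi.basisFun F ι, e, fun i => isEmptyElim i, fun i => isEmptyElim i⟩
  | inr hne =>
    refine ⟨basisOfLinearIndependentOfCardEqFinrank hind (by simp), e, fun i j hij => ?_, fun i => ?_⟩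
    · simpa using horth _ _ (fun he => hij (e.injective he))
    · simpa using hval (e i)

variable (hQ : Q.polarBilin.Nondegenerate) (h2 : (2 : F) ≠ 0)
include hQ h2

omit [Fintype F] in
lemma IsOrthBasis.ne_zero {b : Module.Basis ι F (ι → F)} {w : ι → F} (h : IsOrthBasis Q b w) (i : ι) :
    w i ≠ 0 := by
  intro hi
  apply b.ne_zero i
  apply hQ.1
  intro y
  rw [← b.sum_repr y, polarBilin_apply_apply, polar_sum_smul, Finset.sum_eq_zero]
  intro j _
  rcases eq_or_ne i j with rfl | hij
  · rw [h.polar_self, hi, mul_zero, mul_zero]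
  · rw [h.1 i j hij, mul_zero]

omit [Fintype F] in
lemma disc_square {b b' : Module.Basis ι F (ι → F)} {w w' : ι → F} (h : IsOrthBasis Q b w)
    (h' : IsOrthBasis Q b' w') : IsSquare ((∏ i, w i) * ∏ i, w' i) := by
  set g := LinearMap.det b.equivFun.symm.toLinearMap
  set g' := LinearMap.det b'.equivFun.symm.toLinearMap
  set D := (CfsgLib.QuadFin.gram ⇑Q).det
  have e1 : g ^ 2 * D = 2 ^ Fintype.card ι * ∏ i, w i := h.gram_det
  have e2 : g' ^ 2 * D = 2 ^ Fintype.card ι * ∏ i, w' i := h'.gram_det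
  have hne : (2 : F) ^ Fintype.card ι ≠ 0 := pow_ne_zero _ h2
  refine ⟨g * g' * D / 2 ^ Fintype.card ι, ?_⟩
  field_simp
  linear_combination -(2 ^ Fintype.card ι * ∏ i, w' i) * e1 - (g ^ 2 * D) * e2

/-- An orthogonal basis with any weights of the right discriminant. -/
lemma exists_orthBasis {b : Module.Basis ι F (ι → F)} {w : ι → F} (h : IsOrthBasis Q b w)
    (w' : ι → F) (hw' : ∀ i, w' i ≠ 0) (hsq : IsSquare ((∏ i, w i) * ∏ i, w' i)) :
    ∃ b' : Module.Basis ι F (ι → F), IsOrthBasis Q b' w' := by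
  let W : QuadraticForm F (ι → F) := QuadraticMap.weightedSumSquares F w'
  have hW : ⇑W = fun v : ι → F => ∑ i, w' i * v i ^ 2 := funext fun v => by
    simp [W, QuadraticMap.weightedSumSquares_apply, pow_two]
  have hWb : IsOrthBasis W (Pi.basisFun F ι) w' := by
    refine ⟨fun i j hij => ?_, fun i => by simp [hW, Pi.single_apply]⟩
    simp only [QuadraticMap.polar, hW, Pi.basisFun_apply, Pi.add_apply, ← Finset.sum_sub_distrib]
    refine Finset.sum_eq_zero fun k _ => ?_
    rcases eq_or_ne k i with rfl | hki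
    · simp [hij]
    · simp [hki]
  have hWnd : W.polarBilin.Nondegenerate := by
    have key : ∀ x : ι → F, (∀ y, polar W x y = 0) → x = 0 := by
      intro x hx
      funext i
      have := hx (Pi.single i 1)
      rw [← (Pi.basisFun F ι).sum_repr x, polar_comm, polar_sum_smul,
        Finset.sum_eq_single i (fun j _ hji => by
          rw [show (Pi.single i 1 : ι → F) = Pi.basisFun F ι i by simp, hWb.1 i j hji.symm, mul_zero])
        (fun hi => absurd (Finset.mem_univ i) hi)] at this
      rw [show (Pi.single i 1 : ι → F) = Pi.basisFun F ι i by simp, hWb.polar_self] at this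
      simpa using (mul_eq_zero.1 this).resolve_right (mul_ne_zero h2 (hw' i))
    exact ⟨fun x hx => key x hx, fun x hx => key x fun y => by rw [polar_comm]; exact hx y⟩
  have hWdet : (CfsgLib.QuadFin.gram ⇑W).det = 2 ^ Fintype.card ι * ∏ i, w' i := by
    rw [hW, CfsgLib.QuadFin.gram_diag, Matrix.det_diagonal, Finset.prod_mul_distrib, Finset.prod_const,
      Finset.card_univ]
  have hg0 : LinearMap.det b.equivFun.symm.toLinearMap ≠ 0 := (LinearEquiv.isUnit_det' _).ne_zero
  have hsq' : IsSquare ((CfsgLib.QuadFin.gram ⇑W).det * (CfsgLib.QuadFin.gram ⇑Q).det) := by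
    obtain ⟨r, hr⟩ := hsq
    have e1 := h.gram_det
    refine ⟨2 ^ Fintype.card ι * r / LinearMap.det b.equivFun.symm.toLinearMap, ?_⟩
    rw [hWdet]
    field_simp
    linear_combination (∏ i, w' i) * e1 + (2 : F) ^ Fintype.card ι * hr
  obtain ⟨g, hg⟩ := CfsgLib.OrthUnipotent.exists_isometry h2 W Q hWnd hQ hsq'
  refine ⟨(Pi.basisFun F ι).map g, fun i j hij => ?_, fun i => ?_⟩
  · rw [Module.Basis.map_apply, Module.Basis.map_apply, QuadraticMap.polar, ← map_add, hg, hg, hg]
    exact hWb.1 i j hij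
  · rw [Module.Basis.map_apply, hg]
    exact hWb.2 i

omit hQ h2

/-- The linear map acting by signs on a basis. -/
noncomputable def signLin (b : Module.Basis ι F (ι → F)) (f : ι → ℤˣ) : (ι → F) →ₗ[F] (ι → F) :=
  b.constr F fun i => sgn F (f i) • b i

omit [Fintype F] in
lemma signLin_basis (b : Module.Basis ι F (ι → F)) (f : ι → ℤˣ) (i : ι) :
    signLin b f (b i) = sgn F (f i) • b i := by simp [signLin]

omit [Fintype F] in
lemma signLin_invol (b : Module.Basis ι F (ι → F)) (f : ι → ℤˣ) :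
    (signLin b f).comp (signLin b f) = LinearMap.id :=
  b.ext fun i => by simp [signLin_basis, smul_smul, sgn_mul_self]

omit [Fintype F] in
lemma signLin_Q {b : Module.Basis ι F (ι → F)} {w : ι → F} (h : IsOrthBasis Q b w) (f : ι → ℤˣ) (x : ι → F) :
    Q (signLin b f x) = Q x := by
  rw [← b.sum_repr x, map_sum]
  simp only [map_smul, signLin_basis, smul_smul]
  rw [h.value, h.value]
  refine Finset.sum_congr rfl fun i _ => ?_
  rw [mul_pow, pow_two (sgn F (f i)), sgn_mul_self, mul_one]

/-- The isometries acting by signs on an orthogonal basis. -/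
noncomputable def signHom {b : Module.Basis ι F (ι → F)} {w : ι → F} (h : IsOrthBasis Q b w) :
    (ι → ℤˣ) →* O Q where
  toFun f := mkO (signLin b f) (signLin b f) (signLin_invol b f) (signLin_invol b f) (signLin_Q h f)
  map_one' := ext_app fun x => by
    rw [app_mkO, app_one]
    exact LinearMap.congr_fun (b.ext fun i => by simp [signLin_basis, sgn_one] : signLin b 1 = LinearMap.id) x
  map_mul' f g := ext_app fun x => by
    rw [app_mkO, app_mul, app_mkO, app_mkO]
    exact LinearMap.congr_fun (b.ext fun i => by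
      simp [signLin_basis, sgn_mul, smul_smul, mul_comm] : signLin b (f * g) = (signLin b f).comp (signLin b g)) x

omit [Fintype F] in
lemma app_signHom {b : Module.Basis ι F (ι → F)} {w : ι → F} (h : IsOrthBasis Q b w) (f : ι → ℤˣ) (i : ι) :
    app (signHom h f) (b i) = sgn F (f i) • b i := by
  simp only [signHom, MonoidHom.coe_mk, OneHom.coe_mk, app_mkO, signLin_basis]

omit [Fintype F] in
lemma ext_basis (b : Module.Basis ι F (ι → F)) {g g' : O Q} (hgg : ∀ i, app g (b i) = app g' (b i)) : g = g' :=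
  ext_app fun x => LinearMap.congr_fun (b.ext hgg : app g = app g') x

omit [Fintype F] in
lemma signHom_single (h2 : (2 : F) ≠ 0) {b : Module.Basis ι F (ι → F)} {w : ι → F} (h : IsOrthBasis Q b w)
    (i : ι) (hi : w i ≠ 0) : signHom h (Pi.mulSingle i (-1)) = refl Q (b i) := by
  refine ext_basis b fun j => ?_
  rw [app_signHom]
  rcases eq_or_ne j i with rfl | hji
  · rw [Pi.mulSingle_eq_same, sgn_neg_one, neg_one_smul, app_refl_self (by rwa [h.2])]
  · rw [Pi.mulSingle_eq_of_ne hji, sgn_one, one_smul, app_refl_of_ortho (h.1 j i hji)]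

omit [Fintype F] in
lemma signHom_injective (h2 : (2 : F) ≠ 0) {b : Module.Basis ι F (ι → F)} {w : ι → F} (h : IsOrthBasis Q b w) :
    Function.Injective (signHom h) := fun f g hfg => funext fun i => by
  have := congrArg (fun x => app x (b i)) hfg
  simp only [app_signHom] at this
  exact sgn_injective h2 (smul_left_injective F (b.ne_zero i) this)

variable [DecidableEq F] {d : F}
include hQ h2

/-- Even numbers of sign changes on vectors of one value class lie in the commutator subgroup. -/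
lemma pRankAtLeast_of_class (hd : ¬ IsSquare d) {b : Module.Basis ι F (ι → F)} {w : ι → F}
    (h : IsOrthBasis Q b w) (κ : Type) [Fintype κ] (e : κ → ι) (he : Function.Injective e)
    (hclass : ∀ k k', IsSquare (w (e k)) ↔ IsSquare (w (e k'))) :
    Cfsg.PRankAtLeast 2 (Fintype.card κ - 1) ↥(Cfsg.Omega F ⇑Q) := by
  classical
  set ext : (κ → ℤˣ) →* (ι → ℤˣ) := Function.ExtendByOne.hom ℤˣ e
  set Φ := (signHom h).comp ext
  have hsingle : ∀ k (ε : ℤˣ), ext (Pi.mulSingle k ε) = Pi.mulSingle (e k) ε := by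
    intro k ε
    funext j
    show Function.extend e (Pi.mulSingle k ε) 1 j = _
    by_cases hj : ∃ k', e k' = j
    · obtain ⟨k', rfl⟩ := hj
      rw [he.extend_apply]
      rcases eq_or_ne k' k with rfl | hk
      · simp
      · rw [Pi.mulSingle_eq_of_ne hk, Pi.mulSingle_eq_of_ne (fun hc => hk (he hc))]
    · rw [Function.extend_apply' _ _ _ hj, Pi.mulSingle_eq_of_ne (fun hc => hj ⟨k, hc.symm⟩)]
      rfl
  have hmem : ∀ f : κ → ℤˣ, ∏ k, f k = 1 → Φ f ∈ commutator (O Q) := by
    intro f hf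
    rw [commutator_eq hQ h2 hd, MonoidHom.mem_ker]
    rcases isEmpty_or_nonempty κ with hκ | ⟨⟨k₀⟩⟩
    · rw [Subsingleton.elim f 1, map_one, map_one]
    let θ : ℤˣ →* ℤˣ × ℤˣ := (chiPair Q d).comp (Φ.comp (MonoidHom.mulSingle (fun _ : κ => ℤˣ) k₀))
    have hψ : (chiPair Q d).comp Φ = θ.comp (prodHom κ) := by
      refine MonoidHom.functions_ext _ _ _ fun k ε => ?_
      rw [MonoidHom.comp_apply (θ) (prodHom κ), prodHom_apply, Finset.prod_pi_mulSingle' k ε Finset.univ,
        if_pos (Finset.mem_univ _)]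
      simp only [θ, Φ, MonoidHom.comp_apply, MonoidHom.mulSingle_apply, hsingle]
      rcases Int.units_eq_one_or ε with rfl | rfl
      · simp
      · have hw1 := h.ne_zero hQ h2 (e k)
        have hw0 := h.ne_zero hQ h2 (e k₀)
        rw [signHom_single h2 h _ hw1, signHom_single h2 h _ hw0,
          chiPair_refl h2 hd (by rwa [h.2]), chiPair_refl h2 hd (by rwa [h.2]), h.2, h.2]
        by_cases hs : IsSquare (w (e k))
        · rw [if_pos hs, if_pos ((hclass k k₀).1 hs)]
        · rw [if_neg hs, if_neg (fun hc => hs ((hclass k k₀).2 hc))]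
    have := congrArg (fun φ : (κ → ℤˣ) →* ℤˣ × ℤˣ => φ f) hψ
    simp only [MonoidHom.comp_apply, prodHom_apply, hf, map_one] at this
    exact this
  let φ : (prodHom κ).ker →* ↥(Cfsg.Omega F ⇑Q) :=
    (Φ.comp (prodHom κ).ker.subtype).codRestrict (Cfsg.Omega F ⇑Q) (fun f => hmem f.1 (mem_ker.1 f.2))
  refine pRankAtLeast_of_injective φ (fun f g hfg => ?_) ker_pow_two (card_ker κ).ge
  have h3 : ext f.1 = ext g.1 := signHom_injective h2 h (congrArg Subtype.val hfg)
  refine Subtype.ext (funext fun k => ?_)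
  have h4 := congrFun h3 (e k)
  simpa [ext, Function.ExtendByOne.hom, he.extend_apply] using h4

/-- Structure of an elementary abelian 2-subgroup of `Ω`. -/
lemma exists_signs (hd : ¬ IsSquare d) (A : Subgroup ↥(Cfsg.Omega F ⇑Q)) (hA : IsMulCommutative A)
    (hsq : ∀ a ∈ A, a ^ 2 = 1) :
    ∃ (b : Module.Basis ι F (ι → F)) (Ψ : ↥A →* ↥(prodHom ι).ker), Function.Injective Ψ ∧
      ∀ (a : A) i, app (a.1.1 : O Q) (b i) = sgn F ((Ψ a).1 i) • b i := by
  let ρ : A →* Module.End F (ι → F) :=
    { toFun := fun a => app (a.1.1 : O Q)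
      map_one' := LinearMap.ext fun x => by simp
      map_mul' := fun a c => LinearMap.ext fun x => by simp }
  have hρ : Function.Injective ρ := fun a c h =>
    Subtype.ext (Subtype.ext (ext_app fun x => LinearMap.congr_fun h x))
  obtain ⟨b, s, hs⟩ := exists_sign_basis h2 (fun a c => hA.is_comm.comm a c)
    (fun a => by rw [← _root_.sq]; exact Subtype.ext (hsq _ a.2)) ρ (ι := ι) (by simp)
  have hdet : ∀ a : A, ∏ i, s i a = 1 := by
    intro a
    apply sgn_injective h2
    rw [← det_eq_prod b s ρ hs a, sgn_one]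
    have h1 : detHom Q (a.1.1 : O Q) = 1 :=
      MonoidHom.mem_ker.1 (Abelianization.commutator_subset_ker (detHom Q) a.1.2)
    show LinearMap.det (app (a.1.1 : O Q)) = 1
    unfold app
    rw [← Matrix.toLin'_apply', LinearMap.det_toLin']
    exact congrArg Units.val h1
  exact ⟨b, { toFun := fun a => ⟨fun i => s i a, mem_ker.2 (hdet a)⟩
              map_one' := Subtype.ext (funext fun i => map_one (s i))
              map_mul' := fun a c => Subtype.ext (funext fun i => map_mul (s i) a c) },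
    fun a c h => injective_signs b s hρ hs (congrArg Subtype.val h), hs⟩

lemma pRankLE_card_sub_one (hd : ¬ IsSquare d) :
    Cfsg.PRankLE 2 (Fintype.card ι - 1) ↥(Cfsg.Omega F ⇑Q) := by
  intro A hA hsq
  obtain ⟨b, Ψ, hΨ, -⟩ := exists_signs hQ h2 hd A hA hsq
  have := Nat.card_le_card_of_injective Ψ hΨ
  rwa [card_ker] at this

/-- With non-square discriminant in even dimension at least three the bound drops by one. -/
lemma pRankLE_card_sub_two (hd : ¬ IsSquare d) (heven : Even (Fintype.card ι)) (h4 : 4 ≤ Fintype.card ι)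
    {b₀ : Module.Basis ι F (ι → F)} {w₀ : ι → F} (h₀ : IsOrthBasis Q b₀ w₀) (hD : ¬ IsSquare (∏ i, w₀ i)) :
    Cfsg.PRankLE 2 (Fintype.card ι - 2) ↥(Cfsg.Omega F ⇑Q) := by
  classical
  intro A hA hsq
  obtain ⟨b, Ψ, hΨ, hs⟩ := exists_signs hQ h2 hd A hA hsq
  by_contra hbig
  rw [not_le] at hbig
  have hcardA : Nat.card A = Nat.card Ψ.range := Nat.card_congr (MonoidHom.ofInjective hΨ).toEquiv
  have hdvd : Nat.card Ψ.range ∣ 2 ^ (Fintype.card ι - 1) := by
    rw [← card_ker ι]; exact Subgroup.card_subgroup_dvd_card _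
  obtain ⟨m, hm, hmeq⟩ := (Nat.dvd_prime_pow Nat.prime_two).1 hdvd
  have htop : Ψ.range = ⊤ := by
    apply Subgroup.eq_top_of_card_eq
    rw [card_ker, hmeq]
    rw [hcardA, hmeq] at hbig
    have : Fintype.card ι - 2 < m := (Nat.pow_lt_pow_iff_right (by norm_num)).1 hbig
    congr 1
    omega
  -- every even sign change occurs
  have hpair : ∀ i j, i ≠ j → ∃ a : A, (Ψ a).1 = Pi.mulSingle i (-1) * Pi.mulSingle j (-1) := by
    intro i j hij
    obtain ⟨a, ha⟩ : (⟨Pi.mulSingle i (-1) * Pi.mulSingle j (-1), mem_ker.2 (by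
      simp [Finset.prod_mul_distrib])⟩ : ↥(prodHom ι).ker) ∈ Ψ.range := by rw [htop]; trivial
    exact ⟨a, congrArg Subtype.val ha⟩
  have horth : ∀ i j, i ≠ j → polar Q (b i) (b j) = 0 := by
    intro i j hij
    obtain ⟨k, hk⟩ : ∃ k, k ∉ ({i, j} : Finset ι) := by
      by_contra hc
      push_neg at hc
      have : Fintype.card ι ≤ ({i, j} : Finset ι).card := Finset.card_le_card (fun x _ => hc x)
      have := Finset.card_le_two (a := i) (b := j)
      omega
    simp only [Finset.mem_insert, Finset.mem_singleton, not_or] at hk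
    obtain ⟨a, ha⟩ := hpair i k (Ne.symm hk.1)
    have h1 := polar_app (a.1.1 : O Q) (b i) (b j)
    rw [hs, hs, ha, polar_smul_left, polar_smul_right] at h1
    simp [hij, hij.symm, Ne.symm hk.1, Ne.symm hk.2, sgn] at h1
    have h3 : (2 : F) * polar Q (b i) (b j) = 0 := by linear_combination -h1
    exact (mul_eq_zero.1 h3).resolve_left h2
  have hb : IsOrthBasis Q b (fun i => Q (b i)) := ⟨horth, fun i => rfl⟩
  have hne : ∀ i, Q (b i) ≠ 0 := fun i => hb.ne_zero hQ h2 i
  have hclass : ∀ i j, IsSquare (Q (b i)) ↔ IsSquare (Q (b j)) := by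
    intro i j
    rcases eq_or_ne i j with rfl | hij
    · exact Iff.rfl
    obtain ⟨a, ha⟩ := hpair i j hij
    have haeq : (a.1.1 : O Q) = refl Q (b i) * refl Q (b j) := by
      rw [← signHom_single h2 hb i (hne i), ← signHom_single h2 hb j (hne j), ← map_mul]
      exact ext_basis b fun l => by rw [hs, ha, app_signHom]
    have hker : (a.1.1 : O Q) ∈ (chiPair Q d).ker := commutator_eq hQ h2 hd ▸ a.1.2
    rw [haeq, MonoidHom.mem_ker, map_mul, chiPair_refl h2 hd (hne i), chiPair_refl h2 hd (hne j)] at hker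
    by_cases h1 : IsSquare (Q (b i)) <;> by_cases h3 : IsSquare (Q (b j)) <;>
      simp [h1, h3] at hker ⊢
  apply hD
  have hsqb : IsSquare (∏ i, Q (b i)) := by
    have hne' : (∏ i, Q (b i)) ≠ 0 := Finset.prod_ne_zero_iff.2 fun i _ => hne i
    rw [← quadraticChar_one_iff_isSquare hne', map_prod]
    obtain ⟨i⟩ : Nonempty ι := Fintype.card_pos_iff.1 (by omega)
    rw [Finset.prod_congr rfl (fun j _ => show quadraticChar F (Q (b j)) = quadraticChar F (Q (b i)) by
      rcases quadraticChar_dichotomy (hne i) with e | e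
      · rw [e, quadraticChar_one_iff_isSquare (hne j), hclass j i, ← quadraticChar_one_iff_isSquare (hne i)]
        exact e
      · rw [e, quadraticChar_neg_one_iff_not_isSquare, hclass j i, ← quadraticChar_neg_one_iff_not_isSquare]
        exact e),
      Finset.prod_const, Finset.card_univ]
    obtain ⟨r, hr⟩ := heven
    rw [hr, pow_add, ← mul_pow, ← _root_.sq, quadraticChar_sq_one (hne i), one_pow]
  obtain ⟨r, hr⟩ := hsqb
  obtain ⟨s, hs'⟩ := disc_square hQ h2 hb h₀
  have hr0 : r ≠ 0 := fun h => (Finset.prod_ne_zero_iff.2 fun i _ => hne i) (by rw [hr, h, mul_zero])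
  refine ⟨s / r, ?_⟩
  field_simp
  linear_combination hs' - (∏ i, w₀ i) * hr

/-- The 2-rank of `Ω` in even dimension, from an orthogonal basis. -/
theorem rank_even (hd : ¬ IsSquare d) (heven : Even (Fintype.card ι)) (h4 : 4 ≤ Fintype.card ι)
    {b : Module.Basis ι F (ι → F)} {w : ι → F} (h : IsOrthBasis Q b w) :
    (IsSquare (∏ i, w i) → Cfsg.PRankAtLeast 2 (Fintype.card ι - 1) ↥(Cfsg.Omega F ⇑Q) ∧
      Cfsg.PRankLE 2 (Fintype.card ι - 1) ↥(Cfsg.Omega F ⇑Q)) ∧
    (¬ IsSquare (∏ i, w i) → Cfsg.PRankAtLeast 2 (Fintype.card ι - 2) ↥(Cfsg.Omega F ⇑Q) ∧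
      Cfsg.PRankLE 2 (Fintype.card ι - 2) ↥(Cfsg.Omega F ⇑Q)) := by
  classical
  refine ⟨fun hD => ⟨?_, pRankLE_card_sub_one hQ h2 hd⟩, fun hD => ⟨?_, pRankLE_card_sub_two hQ h2 hd heven h4 h hD⟩⟩
  · obtain ⟨b', hb'⟩ := exists_orthBasis hQ h2 h (fun _ => 1) (fun _ => one_ne_zero) (by simpa using hD)
    exact pRankAtLeast_of_class hQ h2 hd hb' ι id Function.injective_id (fun _ _ => Iff.rfl)
  · obtain ⟨i₀⟩ : Nonempty ι := Fintype.card_pos_iff.1 (by omega)
    have hp : (∏ i, w i) ≠ 0 := Finset.prod_ne_zero_iff.2 fun i _ => h.ne_zero hQ h2 i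
    obtain ⟨b', hb'⟩ := exists_orthBasis hQ h2 h (Function.update (fun _ => 1) i₀ (∏ i, w i))
      (fun i => by rcases eq_or_ne i i₀ with rfl | hi <;> simp [*])
      ⟨∏ i, w i, by rw [Finset.prod_update_of_mem (Finset.mem_univ i₀)]; simp⟩
    have := pRankAtLeast_of_class hQ h2 hd hb' {i // i ≠ i₀} Subtype.val Subtype.val_injective
      (fun k k' => by rw [Function.update_of_ne k.2, Function.update_of_ne k'.2])
    rwa [Fintype.card_subtype_compl, Fintype.card_subtype_eq, Nat.sub_sub] at this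

/-- The 2-rank of `Ω` in odd dimension. -/
theorem rank_odd (hd : ¬ IsSquare d) (hodd : Odd (Fintype.card ι))
    {b : Module.Basis ι F (ι → F)} {w : ι → F} (h : IsOrthBasis Q b w) :
    Cfsg.PRankAtLeast 2 (Fintype.card ι - 1) ↥(Cfsg.Omega F ⇑Q) ∧
      Cfsg.PRankLE 2 (Fintype.card ι - 1) ↥(Cfsg.Omega F ⇑Q) := by
  refine ⟨?_, pRankLE_card_sub_one hQ h2 hd⟩
  obtain ⟨r, hr⟩ := hodd
  have hp : (∏ i, w i) ≠ 0 := Finset.prod_ne_zero_iff.2 fun i _ => h.ne_zero hQ h2 i
  obtain ⟨b', hb'⟩ := exists_orthBasis hQ h2 h (fun _ => ∏ i, w i) (fun _ => hp)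
    ⟨(∏ i, w i) ^ (r + 1), by rw [Finset.prod_const, Finset.card_univ, hr]; ring⟩
  exact pRankAtLeast_of_class hQ h2 hd hb' ι id Function.injective_id (fun _ _ => Iff.rfl)

end CfsgLib.KnownSimple51.OrthTwoRank
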