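import Cfsg.Prelude.Def_PLocal
import Cfsg.Prelude.Def_LocalEven

/-!
# Groups with trivial intersection Sylow p-subgroups do not involve Qd(p)
-/

set_option autoImplicit false

namespace CfsgLib.KnownSimple51.QdFree

open Matrix

variable {p : ℕ}

/-- The defining condition of `qd p`. -/
lemma mem_qd_iff {M : SpecialLinearGroup (Fin 3) (ZMod p)} :
    M ∈ Cfsg.qd p ↔ (M : Matrix (Fin 3) (Fin 3) (ZMod p)) 2 0 = 0 ∧
      (M : Matrix (Fin 3) (Fin 3) (ZMod p)) 2 1 = 0 ∧ (M : Matrix (Fin 3) (Fin 3) (ZMod p)) 2 2 = 1 := by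
  refine ⟨fun h => ?_, fun h => Subgroup.subset_closure h⟩
  induction h using Subgroup.closure_induction with
  | mem x hx => exact hx
  | one => simp
  | mul x y _ _ hx hy => simp [Matrix.mul_apply, Fin.sum_univ_three, hx, hy]
  | inv x _ hx =>
    have h : (x : Matrix (Fin 3) (Fin 3) (ZMod p)) * ((x⁻¹ : SpecialLinearGroup (Fin 3) (ZMod p)) :
        Matrix (Fin 3) (Fin 3) (ZMod p)) = 1 := by
      exact congrArg Subtype.val (mul_inv_cancel x)
    have h0 := congrFun (congrFun h 2) 0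
    have h1 := congrFun (congrFun h 2) 1
    have h2 := congrFun (congrFun h 2) 2
    simp [Matrix.mul_apply, Fin.sum_univ_three, hx] at h0 h1 h2
    exact ⟨h0, h1, h2⟩

/-- The translation subgroup of `qd p`. -/
def transl (p : ℕ) : Subgroup (SpecialLinearGroup (Fin 3) (ZMod p)) where
  carrier := {M | ∀ i j, j ≠ 2 ∨ i = 2 → (M : Matrix (Fin 3) (Fin 3) (ZMod p)) i j = (1 : Matrix (Fin 3) (Fin 3) (ZMod p)) i j}
  one_mem' := fun i j _ => rfl
  mul_mem' {a b} ha hb := fun i j hij => by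
    fin_cases i <;> fin_cases j <;>
      simp at hij <;>
      simp [Matrix.mul_apply, Fin.sum_univ_three, ha 0 0, ha 0 1, ha 1 0, ha 1 1, ha 2 0, ha 2 1, ha 2 2,
        hb 0 0, hb 0 1, hb 1 0, hb 1 1, hb 2 0, hb 2 1, hb 2 2]
  inv_mem' {a} ha := by
    intro i j hij
    have h : ((a⁻¹ : SpecialLinearGroup (Fin 3) (ZMod p)) : Matrix (Fin 3) (Fin 3) (ZMod p)) *
        (a : Matrix (Fin 3) (Fin 3) (ZMod p)) = 1 := by
      exact congrArg Subtype.val (inv_mul_cancel a)
    rcases eq_or_ne j 2 with rfl | hj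
    · obtain rfl : i = 2 := hij.resolve_left (by simp)
      have h0 := congrFun (congrFun h 2) 0
      have h1 := congrFun (congrFun h 2) 1
      have h2 := congrFun (congrFun h 2) 2
      simp [Matrix.mul_apply, Fin.sum_univ_three, ha 0 0, ha 0 1, ha 1 0, ha 1 1, ha 2 0, ha 2 1, ha 2 2] at h0 h1 h2
      simp [h0, h1] at h2
      simpa using h2
    · have h' := congrFun (congrFun h i) j
      fin_cases j <;> simp at hj <;>
        simpa [Matrix.mul_apply, Fin.sum_univ_three, ha 0 0, ha 0 1, ha 1 0, ha 1 1, ha 2 0, ha 2 1, ha 2 2] using h'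

variable [hp : Fact p.Prime]

lemma pow_eq_one_of_mem_transl {M : SpecialLinearGroup (Fin 3) (ZMod p)} (hM : M ∈ transl p) :
    M ^ p = 1 := by
  apply Subtype.ext
  show (M : Matrix (Fin 3) (Fin 3) (ZMod p)) ^ p = 1
  set N := (M : Matrix (Fin 3) (Fin 3) (ZMod p)) - 1 with hN
  have h2 : N ^ 2 = 0 := by
    ext i j
    fin_cases i <;> fin_cases j <;>
      simp [sq, hN, Matrix.mul_apply, Fin.sum_univ_three, hM 0 0, hM 0 1, hM 1 0, hM 1 1, hM 2 0, hM 2 1, hM 2 2]
  have hp0 : N ^ p = 0 := pow_eq_zero_of_le hp.out.two_le h2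
  rw [hN, sub_pow_char_of_commute (p := p) (Commute.one_right _), one_pow, sub_eq_zero] at hp0
  exact hp0

/-- The group Qd(p) has no normal Sylow p-subgroup: two p-elements with product not a p-element. -/
lemma exists_bad_pair : ∃ a b : Cfsg.qd p, a ^ p = 1 ∧ b ^ p = 1 ∧ ∀ k : ℕ, (a * b) ^ (p ^ k) ≠ 1 := by
  let A : SpecialLinearGroup (Fin 3) (ZMod p) := ⟨transvection 0 1 1, det_transvection_of_ne 0 1 (by decide) 1⟩
  let B : SpecialLinearGroup (Fin 3) (ZMod p) := ⟨transvection 1 0 1, det_transvection_of_ne 1 0 (by decide) 1⟩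
  have hA : A ∈ Cfsg.qd p := mem_qd_iff.2 (by simp [A, transvection, Matrix.single])
  have hB : B ∈ Cfsg.qd p := mem_qd_iff.2 (by simp [B, transvection, Matrix.single])
  have hpow : ∀ (i j : Fin 3), i ≠ j → (transvection i j (1 : ZMod p) : Matrix (Fin 3) (Fin 3) (ZMod p)) ^ p = 1 := by
    intro i j hij
    have h2 : (transvection i j (1 : ZMod p) - 1) ^ 2 = 0 := by
      simp [transvection, sq, hij.symm]
    have hp0 := pow_eq_zero_of_le (m := 2) hp.out.two_le h2
    rwa [sub_pow_char_of_commute (p := p) (Commute.one_right _), one_pow, sub_eq_zero] at hp0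
  refine ⟨⟨A, hA⟩, ⟨B, hB⟩, ?_, ?_, fun k hk => ?_⟩
  · exact Subtype.ext (Subtype.ext (show (transvection 0 1 (1 : ZMod p) : Matrix (Fin 3) (Fin 3) (ZMod p)) ^ p = 1 from hpow 0 1 (by decide)))
  · exact Subtype.ext (Subtype.ext (show (transvection 1 0 (1 : ZMod p) : Matrix (Fin 3) (Fin 3) (ZMod p)) ^ p = 1 from hpow 1 0 (by decide)))
  · set T : Matrix (Fin 3) (Fin 3) (ZMod p) := transvection 0 1 1 * transvection 1 0 1 with hT
    have hk' : T ^ (p ^ k) = 1 :=
      congrArg (fun x : Cfsg.qd p => ((x : SpecialLinearGroup (Fin 3) (ZMod p)) : Matrix (Fin 3) (Fin 3) (ZMod p))) hk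
    have hn : IsNilpotent (T - 1) := by
      refine ⟨p ^ k, ?_⟩
      rw [sub_pow_char_pow_of_commute (p := p) (n := k) (Commute.one_right _), hk', one_pow, sub_self]
    have ht := Matrix.isNilpotent_trace_of_isNilpotent hn
    rw [isNilpotent_iff_eq_zero] at ht
    simp [hT, Matrix.trace, Fin.sum_univ_three, Matrix.mul_apply, transvection, Matrix.single] at ht
    exact one_ne_zero (show (1 : ZMod p) = 0 by linear_combination ht)

variable {G : Type*} [Group G] [Finite G]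

/-- If two Sylow subgroups with nontrivial intersection are equal, no subgroup maps onto Qd(p). -/
theorem not_surjective_qd (hTI : ∀ S T : Sylow p G, (S : Subgroup G) ⊓ (T : Subgroup G) ≠ ⊥ → S = T)
    (K : Subgroup G) (φ : ↥K →* ↥(Cfsg.qd p)) : ¬ Function.Surjective φ := by
  intro hφ
  set V : Subgroup (Cfsg.qd p) := (transl p).subgroupOf (Cfsg.qd p) with hVdef
  have hVn : V.Normal := by
    refine ⟨fun v hv g i j hij => ?_⟩
    obtain ⟨hg0, hg1, hg2⟩ := mem_qd_iff.1 g.2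
    obtain ⟨hi0, hi1, hi2⟩ := mem_qd_iff.1 (g⁻¹).2
    have hgg : ((g : SpecialLinearGroup (Fin 3) (ZMod p)) : Matrix (Fin 3) (Fin 3) (ZMod p)) *
        ((g : SpecialLinearGroup (Fin 3) (ZMod p))⁻¹ : SpecialLinearGroup (Fin 3) (ZMod p)) = 1 := by
      exact congrArg Subtype.val (mul_inv_cancel (g : SpecialLinearGroup (Fin 3) (ZMod p)))
    set X := ((v : SpecialLinearGroup (Fin 3) (ZMod p)) : Matrix (Fin 3) (Fin 3) (ZMod p)) - 1 with hX
    set Gm := ((g : SpecialLinearGroup (Fin 3) (ZMod p)) : Matrix (Fin 3) (Fin 3) (ZMod p))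
    set Gi := (((g : SpecialLinearGroup (Fin 3) (ZMod p))⁻¹ : SpecialLinearGroup (Fin 3) (ZMod p)) : Matrix (Fin 3) (Fin 3) (ZMod p))
    have hi0' : Gi 2 0 = 0 := hi0
    have hi1' : Gi 2 1 = 0 := hi1
    have hx : ∀ a b, b ≠ 2 ∨ a = 2 → X a b = 0 := fun a b hab => by
      rw [hX, Matrix.sub_apply, sub_eq_zero]
      exact hv a b hab
    change (((g * v * g⁻¹ : Cfsg.qd p) : SpecialLinearGroup (Fin 3) (ZMod p)) : Matrix (Fin 3) (Fin 3) (ZMod p)) i j = _
    have hcalc : (((g * v * g⁻¹ : Cfsg.qd p) : SpecialLinearGroup (Fin 3) (ZMod p)) : Matrix (Fin 3) (Fin 3) (ZMod p))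
        = 1 + Gm * X * Gi := by
      simp only [Subgroup.coe_mul, Subgroup.coe_inv, SpecialLinearGroup.coe_mul]
      rw [hX, mul_sub, sub_mul, mul_one, hgg]
      abel
    rw [hcalc, Matrix.add_apply]
    fin_cases i <;> fin_cases j <;> simp at hij <;>
      simp [Gm, Matrix.mul_apply, Fin.sum_univ_three, hg0, hg1, hi0', hi1', hx 0 0, hx 0 1, hx 1 0, hx 1 1, hx 2 0, hx 2 1, hx 2 2]
  haveI := hVn
  set W : Subgroup ↥K := V.comap φ with hWdef
  haveI : W.Normal := Subgroup.Normal.comap hVn φ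
  obtain ⟨P⟩ : Nonempty (Sylow p ↥W) := inferInstance
  have hK := Sylow.normalizer_sup_eq_top P
  set PK : Subgroup ↥K := (P : Subgroup ↥W).map W.subtype with hPK
  set PG : Subgroup G := PK.map K.subtype with hPG
  have hPGp : IsPGroup p ↥PG := (P.isPGroup'.map _).map _
  have hVp : IsPGroup p ↥V := fun v => ⟨1, by
    rw [pow_one]
    exact Subtype.ext (Subtype.ext (pow_eq_one_of_mem_transl v.2))⟩
  -- `φ` maps the Sylow subgroup onto `V`
  have hPV : PK.map φ = V := by
    apply le_antisymm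
    · rintro _ ⟨_, ⟨x, -, rfl⟩, rfl⟩
      exact x.2
    · intro v hv
      obtain ⟨k, rfl⟩ := hφ v
      let kW : ↥W := ⟨k, hv⟩
      set n := Nat.card ↥W
      obtain ⟨e, m, hm, hnm⟩ := Nat.exists_eq_pow_mul_and_not_dvd (Nat.card_pos (α := ↥W)).ne' p hp.out.ne_one
      -- a p-power of `φ k` generates it
      let ψ : ↥W →* ↥V := (φ.comp W.subtype).codRestrict V (fun x => x.2)
      have hψ : Function.Surjective ψ := fun v => by
        obtain ⟨x, hx⟩ := hφ v
        exact ⟨⟨x, show φ x ∈ V by rw [hx]; exact v.2⟩, Subtype.ext hx⟩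
      have htop : (P : Subgroup ↥W).map ψ = ⊤ := by
        let Q := P.mapSurjective hψ
        have : (Q : Subgroup ↥V) = ⊤ := by
          have h := Q.3 (Q := ⊤) (hVp.to_subgroup ⊤) le_top
          exact h.symm
        simpa [Q] using this
      have : ψ kW ∈ (P : Subgroup ↥W).map ψ := by rw [htop]; trivial
      obtain ⟨x, hx, hxk⟩ := this
      exact ⟨x, ⟨x, hx, rfl⟩, congrArg Subtype.val hxk⟩
  have hne : PG ≠ ⊥ := by
    intro h
    rw [hPG, Subgroup.map_eq_bot_iff_of_injective _ K.subtype_injective] at h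
    rw [h, Subgroup.map_bot] at hPV
    have hmem : (⟨⟨transvection 0 2 1, det_transvection_of_ne 0 2 (by decide) 1⟩,
        mem_qd_iff.2 (by simp [transvection, Matrix.single])⟩ : Cfsg.qd p) ∈ V := by
      intro i j hij
      fin_cases i <;> fin_cases j <;> simp at hij <;> simp [transvection, Matrix.single]
    rw [← hPV, Subgroup.mem_bot] at hmem
    have := congrArg (fun x : Cfsg.qd p => ((x : SpecialLinearGroup (Fin 3) (ZMod p)) : Matrix (Fin 3) (Fin 3) (ZMod p)) 0 2) hmem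
    simp [transvection, Matrix.single] at this
  obtain ⟨S, hS⟩ := hPGp.exists_le_sylow
  -- the normalizer of the Sylow subgroup of `W` normalizes `S`
  have hN : ∀ k ∈ Subgroup.normalizer (PK : Set ↥K), (k : G) • S = S := by
    intro k hk
    apply hTI
    intro hbot
    apply hne
    rw [eq_bot_iff, ← hbot]
    refine le_inf ?_ hS
    rintro x ⟨y, hy, rfl⟩
    have hy' : k⁻¹ * y * k ∈ PK := ((Subgroup.mem_normalizer_iff''.1 hk) y).1 hy
    rw [Sylow.coe_subgroup_smul, Subgroup.mem_pointwise_smul_iff_inv_smul_mem]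
    have := hS ⟨k⁻¹ * y * k, hy', rfl⟩
    simpa [MulAut.smul_def, mul_assoc] using this
  -- lift p-elements of Qd(p) into `S`
  have hlift : ∀ a : Cfsg.qd p, a ^ p = 1 → ∃ x : ↥K, (x : G) ∈ (S : Subgroup G) ∧ φ x = a := by
    intro a ha
    obtain ⟨k, rfl⟩ := hφ a
    have hk : k ∈ Subgroup.normalizer (PK : Set ↥K) ⊔ W := by rw [hK]; trivial
    obtain ⟨y, hy, w, hw, rfl⟩ := Subgroup.mem_sup_of_normal_right.1 hk
    obtain ⟨z, hz, hzw⟩ : φ w ∈ PK.map φ := by rw [hPV]; exact hw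
    have hyz : y * z ∈ Subgroup.normalizer (PK : Set ↥K) := mul_mem hy (Subgroup.le_normalizer hz)
    obtain ⟨e, m, hm, hnm⟩ := Nat.exists_eq_pow_mul_and_not_dvd (orderOf_pos (y * z)).ne' p hp.out.ne_one
    have hcop : m.Coprime p := ((Nat.Prime.coprime_iff_not_dvd hp.out).2 hm).symm
    obtain ⟨r, -, hr⟩ := Nat.exists_mul_mod_eq_one_of_coprime hcop hp.out.one_lt
    set x := (y * z) ^ (m * r)
    have hx : x ^ (p ^ e) = 1 := by
      rw [← pow_mul, show m * r * p ^ e = orderOf (y * z) * r by rw [hnm]; ring, pow_mul, pow_orderOf_eq_one, one_pow]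
    refine ⟨x, ?_, ?_⟩
    · have hmemN : (x : G) ∈ Subgroup.normalizer ((S : Subgroup G) : Set G) :=
        Sylow.smul_eq_iff_mem_normalizer.1 (hN x (pow_mem hyz _))
      have hpx : IsPGroup p ↥(Subgroup.zpowers (x : G)) :=
        fun ⟨t, ht⟩ => ⟨e, by
          obtain ⟨c, rfl⟩ := Subgroup.mem_zpowers_iff.1 ht
          have hxG : (x : G) ^ (p ^ e) = 1 := by rw [← Subgroup.coe_pow, hx, Subgroup.coe_one]
          ext
          simp only [SubmonoidClass.coe_pow, OneMemClass.coe_one]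
          rw [← zpow_natCast, ← _root_.zpow_mul, mul_comm, _root_.zpow_mul, zpow_natCast, hxG, _root_.one_zpow]⟩
      have hle := hpx.inf_normalizer_sylow S
      erw [inf_eq_left.2 (Subgroup.zpowers_le.2 hmemN)] at hle
      have h1 : (x : G) ∈ Subgroup.zpowers (x : G) ⊓ (S : Subgroup G) := hle ▸ Subgroup.mem_zpowers _
      exact h1.2
    · have hyzφ : φ (y * z) = φ (y * w) := by rw [map_mul, map_mul, hzw]
      rw [map_pow, hyzφ, ← Nat.div_add_mod (m * r) p, hr, pow_succ, pow_mul, ha, one_pow, one_mul]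
  obtain ⟨a, b, ha, hb, hab⟩ := exists_bad_pair (p := p)
  obtain ⟨x, hx, rfl⟩ := hlift a ha
  obtain ⟨y, hy, rfl⟩ := hlift b hb
  obtain ⟨k, hk⟩ := S.isPGroup' ⟨(x : G) * y, mul_mem hx hy⟩
  apply hab k
  have : (x * y) ^ (p ^ k) = 1 := Subtype.ext (by simpa using congrArg Subtype.val hk)
  rw [← map_mul, ← map_pow, this, map_one]

/-- If `G` has trivial intersection Sylow subgroups, no quotient of `G` involves Qd(p). -/
theorem not_involves_qd_quotient (hTI : ∀ S T : Sylow p G, (S : Subgroup G) ⊓ (T : Subgroup G) ≠ ⊥ → S = T)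
    (Z : Subgroup G) [Z.Normal] : ¬ Cfsg.Involves ↥(Cfsg.qd p) (G ⧸ Z) := by
  rintro ⟨K, R, hR, ⟨e⟩⟩
  let φ : ↥(K.comap (QuotientGroup.mk' Z)) →* ↥(Cfsg.qd p) :=
    e.toMonoidHom.comp ((QuotientGroup.mk' (R.subgroupOf K)).comp ((QuotientGroup.mk' Z).subgroupComap K))
  refine not_surjective_qd hTI _ φ ?_
  refine e.surjective.comp ((QuotientGroup.mk'_surjective _).comp ?_)
  rintro ⟨x, hx⟩
  obtain ⟨y, rfl⟩ := QuotientGroup.mk'_surjective Z x
  exact ⟨⟨y, hx⟩, rfl⟩

end CfsgLib.KnownSimple51.QdFree
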