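import Cfsg.Agent.Lib.KnownSimple51.TreeSylow

/-!
# Maximal overgroups of Sylow 2-subgroups of symmetric and alternating groups
-/

set_option autoImplicit false

namespace CfsgLib.KnownSimple51.SylowOvergroups

open Equiv CfsgLib.KnownSimple51.TreeSylow

variable {n : ℕ}

/-- The permutations respecting level `j`. -/
def levelStab (n j : ℕ) : Subgroup (Perm (Fin n)) where
  carrier := {σ | ∀ x y, Same j (σ x) (σ y) ↔ Same j x y}
  one_mem' := fun _ _ => Iff.rfl
  mul_mem' {a b} ha hb x y := (ha (b x) (b y)).trans (hb x y)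
  inv_mem' {a} ha x y := by
    have := ha (a⁻¹ x) (a⁻¹ y)
    simpa using this.symm

lemma treeGroup_le_levelStab (j : ℕ) : treeGroup n ≤ levelStab n j := fun _ h => h j

/-- The permutations fixing the point `l`. -/
abbrev pointStab (l : Fin n) : Subgroup (Perm (Fin n)) := MulAction.stabilizer (Perm (Fin n)) l

/-- A permutation moving only points of one class respects that level. -/
lemma mem_levelStab_of_class {j : ℕ} {σ : Perm (Fin n)} (h : ∀ x, Same j (σ x) x) : σ ∈ levelStab n j :=
  fun x y => ⟨fun hxy => same_trans (same_symm (h x)) (same_trans hxy (h y)),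
    fun hxy => same_trans (h x) (same_trans hxy (same_symm (h y)))⟩

/-- A point that is alone at some level is fixed by the tree group. -/
lemma treeGroup_le_pointStab (j : ℕ) (hj : n % 2 ^ j = 1) (l : Fin n) (hl : l.val = n - 1) :
    treeGroup n ≤ pointStab l := by
  intro σ hσ
  rw [MulAction.mem_stabilizer_iff, Perm.smul_def]
  by_contra hne
  have hd := Nat.div_add_mod n (2 ^ j)
  rw [hj] at hd
  have hlv : l.val = 2 ^ j * (n / 2 ^ j) := by omega
  have hlne : (σ l).val < 2 ^ j * (n / 2 ^ j) := by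
    have := (σ l).2
    have : (σ l).val ≠ l.val := fun h => hne (Fin.ext h)
    omega
  set c := (σ l).val / 2 ^ j
  have hc : (c + 1) * 2 ^ j ≤ n := by
    have : c < n / 2 ^ j := Nat.div_lt_of_lt_mul hlne
    calc (c + 1) * 2 ^ j ≤ n / 2 ^ j * 2 ^ j := Nat.mul_le_mul_right _ this
      _ ≤ n := Nat.div_mul_le_self n _
  have hj1 : 2 ≤ 2 ^ j := by
    rcases Nat.eq_zero_or_pos j with rfl | h
    · simp [Nat.mod_one] at hj
    · calc 2 = 2 ^ 1 := rfl
        _ ≤ 2 ^ j := Nat.pow_le_pow_right (by norm_num) h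
  -- the class of `σ l` has another point, whose preimage is in the class of `l`
  have hcm : c * 2 ^ j + 2 ^ j = (c + 1) * 2 ^ j := by ring
  obtain ⟨z, hz, hzne⟩ : ∃ z : Fin n, z.val / 2 ^ j = c ∧ z ≠ σ l := by
    by_cases he : (σ l).val = c * 2 ^ j
    · refine ⟨⟨c * 2 ^ j + 1, by omega⟩, ?_, fun h => by simp [Fin.ext_iff, he] at h⟩
      show (c * 2 ^ j + 1) / 2 ^ j = c
      rw [add_comm, Nat.add_mul_div_right _ _ (Nat.two_pow_pos j), Nat.div_eq_of_lt (by omega), zero_add]
    · refine ⟨⟨c * 2 ^ j, by omega⟩, Nat.mul_div_cancel c (Nat.two_pow_pos j), fun h => ?_⟩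
      exact he (congrArg Fin.val h).symm
  apply hzne
  have h1 : Same j (σ (σ⁻¹ z)) (σ l) := by
    show (σ (σ⁻¹ z)).val / 2 ^ j = c
    simpa using hz
  have h2 : Same j (σ⁻¹ z) l := (hσ j _ _).1 h1
  have hkey : (σ⁻¹ z) = l := by
    apply Fin.ext
    have hv : (σ⁻¹ z).val / 2 ^ j = l.val / 2 ^ j := h2
    rw [hlv, Nat.mul_div_cancel_left _ (Nat.two_pow_pos j)] at hv
    have h3 := Nat.div_add_mod (σ⁻¹ z).val (2 ^ j)
    rw [hv] at h3
    have := (σ⁻¹ z).2
    omega
  rw [← hkey]
  simp

lemma sign_swap_mul_swap {a b c d : Fin n} (hab : a ≠ b) (hcd : c ≠ d) :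
    Perm.sign (swap a b * swap c d) = 1 := by
  rw [map_mul, Perm.sign_swap hab, Perm.sign_swap hcd]
  decide

/-- The subgroup generated by the cycles `(0 1 z)` is the alternating group. -/
lemma alternating_le_of_three_cycles {M : Subgroup (Perm (Fin n))} (p q : Fin n) (hpq : p ≠ q)
    (h : ∀ z, z ≠ p → z ≠ q → swap p z * swap p q ∈ M) : alternatingGroup (Fin n) ≤ M := by
  intro σ hσ
  set M' := M ⊓ alternatingGroup (Fin n)
  have h1 : ∀ z, z ≠ p → swap p z * swap p q ∈ M' := by
    intro z hzp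
    rcases eq_or_ne z q with rfl | hzq
    · simpa using one_mem M'
    · exact ⟨h z hzp hzq, Equiv.Perm.mem_alternatingGroup.2 (sign_swap_mul_swap hzp.symm hpq)⟩
  have h2 : ∀ a b, a ≠ p → b ≠ p → swap p a * swap p b ∈ M' := fun a b ha hb => by
    have := mul_mem (h1 a ha) (inv_mem (h1 b hb))
    simpa [mul_assoc] using this
  have h3 : ∀ a b : Fin n, a ≠ b → swap a b * swap p q ∈ M' := by
    intro a b hab
    rcases eq_or_ne a p with rfl | ha
    · exact h1 b hab.symm
    rcases eq_or_ne b p with rfl | hb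
    · rw [swap_comm]; exact h1 a ha
    have he : swap a b = swap p a * swap p b * swap p a := by
      have := Equiv.swap_apply_apply (swap p a) p b
      rw [swap_apply_left, swap_apply_of_ne_of_ne hb hab.symm, swap_inv] at this
      exact this
    rw [he, mul_assoc]
    exact mul_mem (h2 a b ha hb) (h1 a ha)
  suffices hh : ∀ σ : Perm (Fin n), σ ∈ M' ∨ σ * swap p q ∈ M' by
    rcases hh σ with h | h
    · exact h.1
    · have := Equiv.Perm.mem_alternatingGroup.1 h.2
      rw [map_mul, Perm.sign_swap hpq, Equiv.Perm.mem_alternatingGroup.1 hσ] at this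
      exact absurd this (by decide)
  intro σ
  induction σ using Equiv.Perm.swap_induction_on' with
  | one => exact Or.inl (one_mem _)
  | mul_swap f a b hab ih =>
    rcases ih with h | h
    · exact Or.inr (by rw [mul_assoc]; exact mul_mem h (h3 a b hab))
    · left
      have := mul_mem h (inv_mem (h3 a b hab))
      simpa [mul_assoc] using this

/-- Two proper overgroups of the tree group generating everything. -/
lemma join_contains_alternating (hn : 6 ≤ n) (k : ℕ) (hk : 2 ^ k < n) (hk' : n ≤ 2 * 2 ^ k)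
    (hne : n ≠ 2 ^ k + 1) (M : Subgroup (Perm (Fin n)))
    (hA : levelStab n k ⊓ alternatingGroup (Fin n) ≤ M)
    (hB : Even n → levelStab n 1 ⊓ alternatingGroup (Fin n) ≤ M)
    (hB' : Odd n → ∀ l : Fin n, l.val = n - 1 → pointStab l ⊓ alternatingGroup (Fin n) ≤ M) :
    alternatingGroup (Fin n) ≤ M := by
  have h4 : 4 ≤ 2 ^ k := by
    by_contra hc
    rcases k with _ | _ | k <;> simp_all [pow_succ] <;> omega
  set p : Fin n := ⟨0, by omega⟩ with hp
  set q : Fin n := ⟨1, by omega⟩ with hq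
  have hpq : p ≠ q := by simp [p, q, Fin.ext_iff]
  have hev : ∀ z, z ≠ p → swap p z * swap p q ∈ alternatingGroup (Fin n) := fun z hz =>
    Equiv.Perm.mem_alternatingGroup.2 (sign_swap_mul_swap hz.symm hpq)
  have hclass : ∀ x : Fin n, x.val < 2 ^ k → x.val / 2 ^ k = 0 := fun x hx => Nat.div_eq_of_lt hx
  have hlow : ∀ z : Fin n, z.val < 2 ^ k → z ≠ p → swap p z * swap p q ∈ M := by
    intro z hz hzp
    refine hA ⟨mem_levelStab_of_class fun x => ?_, hev z hzp⟩
    show _ / 2 ^ k = x.val / 2 ^ k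
    rw [Perm.mul_apply, Equiv.swap_apply_def p q x]
    have hpv : (p : ℕ) = 0 := rfl
    have hqv : (q : ℕ) = 1 := rfl
    split_ifs with h1 h2 <;> rw [Equiv.swap_apply_def] <;> split_ifs <;>
      simp_all [Nat.div_eq_of_lt, show (1 : ℕ) < 2 ^ k by omega]
  apply alternating_le_of_three_cycles p q hpq
  intro z hzp hzq
  by_cases hz : z.val < 2 ^ k
  · exact hlow z hz hzp
  rcases Nat.even_or_odd n with he | ho
  · -- conjugate by an exchange of two pairs
    set i := z.val / 2
    have hi : 2 * i + 1 < n := by rcases he with ⟨r, hr⟩; omega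
    set u : Fin n := ⟨2, by omega⟩
    set v : Fin n := ⟨3, by omega⟩
    set s : Fin n := ⟨2 * i, by omega⟩
    set t : Fin n := ⟨2 * i + 1, hi⟩
    have hi2 : 2 ≤ i := by omega
    have hw : swap u s * swap v t ∈ M := by
      refine hB he ⟨fun x y => ?_, Equiv.Perm.mem_alternatingGroup.2 (sign_swap_mul_swap
        (by simp [u, s, Fin.ext_iff]; omega) (by simp [v, t, Fin.ext_iff]; omega))⟩
      have hval : ∀ w : Fin n, ((swap u s * swap v t) w).val / 2 =
          if w.val / 2 = 1 then i else if w.val / 2 = i then 1 else w.val / 2 := by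
        intro w
        rw [Perm.mul_apply, Equiv.swap_apply_def v t w]
        split_ifs <;> rw [Equiv.swap_apply_def] <;> split_ifs <;>
          simp_all [u, v, s, t, Fin.ext_iff] <;> omega
      show ((swap u s * swap v t) x).val / 2 ^ 1 = ((swap u s * swap v t) y).val / 2 ^ 1 ↔
        x.val / 2 ^ 1 = y.val / 2 ^ 1
      rw [pow_one, hval, hval]
      split_ifs <;> omega
    set w := swap u s * swap v t
    have hwfix : ∀ x : Fin n, x.val < 2 → w x = x := by
      intro x hx
      have hxu : x ≠ u := by intro h; have := congrArg Fin.val h; simp [u] at this; omega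
      have hxv : x ≠ v := by intro h; have := congrArg Fin.val h; simp [v] at this; omega
      have hxs : x ≠ s := by intro h; have := congrArg Fin.val h; simp [s] at this; omega
      have hxt : x ≠ t := by intro h; have := congrArg Fin.val h; simp [t] at this; omega
      rw [Perm.mul_apply, swap_apply_of_ne_of_ne hxv hxt, swap_apply_of_ne_of_ne hxu hxs]
    have hwp : w p = p := hwfix p (by simp [p])
    have hwq : w q = q := hwfix q (by simp [q])
    have hwz : (w z).val < 2 ^ k ∧ w z ≠ p := by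
      have : z = s ∨ z = t := by simp [s, t, Fin.ext_iff]; omega
      rcases this with h | h <;> rw [h, Perm.mul_apply]
      · rw [swap_apply_of_ne_of_ne (a := v) (b := t) (x := s) (by simp [s, v, Fin.ext_iff]; omega) (by simp [s, t, Fin.ext_iff]),
          swap_apply_right]
        exact ⟨by simp [u]; omega, by simp [u, p, Fin.ext_iff]⟩
      · rw [swap_apply_right, swap_apply_of_ne_of_ne (by simp [u, v, Fin.ext_iff]) (by simp [s, v, Fin.ext_iff]; omega)]
        exact ⟨by simp [v]; omega, by simp [v, p, Fin.ext_iff]⟩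
    have := mul_mem (mul_mem (inv_mem hw) (hlow _ hwz.1 hwz.2)) hw
    have e : w⁻¹ * (swap p (w z) * swap p q) * w = swap p z * swap p q := by
      have e1 := Equiv.swap_apply_apply w p z
      have e2 := Equiv.swap_apply_apply w p q
      rw [hwp] at e1
      rw [hwp, hwq] at e2
      conv_lhs => rw [e1, e2]
      simp [mul_assoc]
    rwa [e] at this
  · set l : Fin n := ⟨n - 1, by omega⟩
    have hB2 := hB' ho l rfl
    by_cases hzl : z = l
    · rw [hzl]
      set a : Fin n := ⟨2 ^ k, by omega⟩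
      set b : Fin n := ⟨2 ^ k + 1, by omega⟩
      have hbl : b.val < n - 1 := by
        rcases ho with ⟨r, hr⟩
        have : 2 ∣ 2 ^ k := dvd_pow_self 2 (by rintro rfl; omega)
        simp [b]
        omega
      have hab : a ≠ b := by simp [a, b, Fin.ext_iff]
      have hbl' : b ≠ l := by simp [l, Fin.ext_iff]; omega
      have hc : swap a b * swap b l ∈ M := by
        refine hA ⟨mem_levelStab_of_class fun x => ?_, Equiv.Perm.mem_alternatingGroup.2 (sign_swap_mul_swap hab hbl')⟩
        show _ / 2 ^ k = x.val / 2 ^ k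
        have hd : ∀ w : ℕ, 2 ^ k ≤ w → w < n → w / 2 ^ k = 1 := fun w h1 h2 =>
          Nat.div_eq_of_lt_le (by omega) (by show w < 2 * 2 ^ k; omega)
        have hav : a.val = 2 ^ k := rfl
        have hbv : b.val = 2 ^ k + 1 := rfl
        have hlv : l.val = n - 1 := rfl
        have hfin : ∀ u w : Fin n, 2 ^ k ≤ u.val → 2 ^ k ≤ w.val → u.val / 2 ^ k = w.val / 2 ^ k :=
          fun u w hu hw => (hd _ hu u.2).trans (hd _ hw w.2).symm
        rw [Perm.mul_apply]
        by_cases hxl : x = l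
        · rw [hxl, swap_apply_right, swap_apply_right]
          exact hfin a l (by omega) (by omega)
        by_cases hxb : x = b
        · rw [hxb, swap_apply_left, swap_apply_of_ne_of_ne (a := a) (b := b) (x := l) (by simp [Fin.ext_iff, hav, hlv]; omega) hbl'.symm]
          exact hfin l b (by omega) (by omega)
        rw [swap_apply_of_ne_of_ne hxb hxl]
        by_cases hxa : x = a
        · rw [hxa, swap_apply_left]
          exact hfin b a (by omega) (by omega)
        rw [swap_apply_of_ne_of_ne hxa hxb]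
      have hsmall : ∀ x : Fin n, x.val < 2 → x ≠ a ∧ x ≠ b ∧ x ≠ l := by
        intro x hx
        refine ⟨?_, ?_, ?_⟩ <;> intro h <;> have := congrArg Fin.val h <;> simp [a, b, l] at this <;> omega
      have hmem : ∀ z : Fin n, z ≠ l → z ≠ p → swap p z * swap p q ∈ M := fun z hz hzp => hB2 ⟨show swap p z * swap p q ∈ pointStab l by
        rw [MulAction.mem_stabilizer_iff, Perm.smul_def, Perm.mul_apply,
          swap_apply_of_ne_of_ne (a := p) (b := q) (hsmall p (by simp [p])).2.2.symm (hsmall q (by simp [q])).2.2.symm,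
          swap_apply_of_ne_of_ne (hsmall p (by simp [p])).2.2.symm hz.symm], hev z hzp⟩
      have hb : swap p b * swap p q ∈ M := hmem b hbl' (hsmall p (by simp [p])).2.1.symm
      have ha : swap p a * swap p q ∈ M :=
        hmem a (by simp [a, l, Fin.ext_iff]; omega) (hsmall p (by simp [p])).1.symm
      set c := swap a b * swap b l
      have hcl : c l = a := by
        rw [Perm.mul_apply, swap_apply_right, swap_apply_right]
      have hcfix : ∀ x : Fin n, x.val < 2 → c x = x := by
        intro x hx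
        obtain ⟨h1, h2, h3⟩ := hsmall x hx
        rw [Perm.mul_apply, swap_apply_of_ne_of_ne h2 h3, swap_apply_of_ne_of_ne h1 h2]
      have hcp : c p = p := hcfix p (by simp [p])
      have hcq : c q = q := hcfix q (by simp [q])
      have := mul_mem (mul_mem (inv_mem hc) ha) hc
      have e1 := Equiv.swap_apply_apply c p l
      have e2 := Equiv.swap_apply_apply c p q
      rw [hcp, hcl] at e1
      rw [hcp, hcq] at e2
      have e : c⁻¹ * (swap p a * swap p q) * c = swap p l * swap p q := by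
        conv_lhs => rw [e1, e2]
        simp [mul_assoc]
      rwa [e] at this
    · refine hB2 ⟨(?_ : swap p z * swap p q ∈ pointStab l), hev z hzp⟩
      rw [MulAction.mem_stabilizer_iff, Perm.smul_def, Perm.mul_apply,
        swap_apply_of_ne_of_ne (a := p) (b := q), swap_apply_of_ne_of_ne] <;>
        simp [p, q, l, Fin.ext_iff] at * <;> omega

/-- Overgroups of the even tree group in degree `2^k + 1` moving the last point contain the alternating group. -/
lemma alternating_le_of_moves (k : ℕ) (hk : 2 ≤ k) (hn : n = 2 ^ k + 1) (l : Fin n) (hl : l.val = n - 1)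
    (M : Subgroup (Perm (Fin n))) (hM : evenPart n ≤ M) (g0 : Perm (Fin n)) (hg0 : g0 ∈ M) (hmove : g0 l ≠ l) :
    alternatingGroup (Fin n) ≤ M := by
  have h4 : 4 ≤ 2 ^ k := by
    calc 4 = 2 ^ 2 := rfl
      _ ≤ 2 ^ k := Nat.pow_le_pow_right (by norm_num) hk
  have hlt : ∀ x : Fin n, x ≠ l → x.val < 2 ^ k := fun x hx => by
    have : x.val ≠ l.val := fun h => hx (Fin.ext h)
    omega
  have h2 : 2 ∣ 2 ^ k := dvd_pow_self 2 (by omega)
  -- transitivity of the even tree group on the other points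
  have htree : ∀ j ≤ k, ∀ x y : Fin n, x ≠ l → Same j x y → y ≠ l →
      ∃ σ ∈ evenPart n, σ x = y := by
    intro j
    induction j with
    | zero => intro _ x y _ h _; exact ⟨1, one_mem _, same_zero.1 h⟩
    | succ j ih =>
      intro hj x y hxl hxy hyl
      rcases Nat.eq_zero_or_pos j with rfl | hjpos
      · -- a double transposition containing the pair
        rcases eq_or_ne x y with rfl | hne
        · exact ⟨1, one_mem _, rfl⟩
        obtain ⟨i, hi, hix⟩ : ∃ i, 2 * i + 1 < 2 ^ k ∧ i ≠ x.val / 2 := by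
          by_cases h0 : x.val / 2 = 0
          · exact ⟨1, by omega, by omega⟩
          · exact ⟨0, by omega, by omega⟩
        have h' : x.val / 2 = y.val / 2 := by simpa [Same] using hxy
        let a : Fin n := ⟨2 * i, by omega⟩
        let b : Fin n := ⟨2 * i + 1, by omega⟩
        refine ⟨swap x y * swap a b, ⟨mul_mem (swap_mem_treeGroup (by simpa using hxy))
          (swap_mem_treeGroup (by simp [Same, a, b]; omega)),
          Equiv.Perm.mem_alternatingGroup.2 (sign_swap_mul_swap hne (by simp [a, b, Fin.ext_iff]))⟩, ?_⟩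
        rw [Perm.mul_apply, swap_apply_of_ne_of_ne (a := a) (b := b), swap_apply_left] <;>
          simp [a, b, Fin.ext_iff] <;> omega
      · by_cases hsame : Same j x y
        · exact ih (by omega) x y hxl hsame hyl
        have hxk := hlt x hxl
        have hfull : (x.val / 2 ^ (j + 1) + 1) * 2 ^ (j + 1) ≤ n := by
          obtain ⟨m, hm⟩ := pow_dvd_pow 2 hj
          have hlt2 : x.val / 2 ^ (j + 1) < m := Nat.div_lt_of_lt_mul (hm ▸ hxk)
          calc (x.val / 2 ^ (j + 1) + 1) * 2 ^ (j + 1) ≤ m * 2 ^ (j + 1) := Nat.mul_le_mul_right _ hlt2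
            _ ≤ n := by rw [mul_comm, ← hm]; omega
        obtain ⟨σ, hσ, -, h1, h2'⟩ := exists_exchange_even hjpos x hfull
        have hσl : σ x ≠ l := by
          intro he
          have hfix := treeGroup_le_pointStab k (by rw [hn, Nat.add_mod_left, Nat.mod_eq_of_lt (by omega)]) l hl hσ.1
          rw [MulAction.mem_stabilizer_iff, Perm.smul_def] at hfix
          exact hxl (σ.injective (he.trans hfix.symm))
        have hσy : Same j (σ x) y := by
          rcases same_or_three (same_symm h1) hxy with e | e | e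
          · exact absurd (same_symm e) h2'
          · exact absurd e hsame
          · exact e
        obtain ⟨τ, hτ, hτy⟩ := ih (by omega) (σ x) y hσl hσy hyl
        exact ⟨τ * σ, mul_mem hτ hσ, hτy⟩
  have htrans : ∀ x y : Fin n, x ≠ l → y ≠ l → ∃ σ ∈ M, σ x = y := by
    intro x y hx hy
    obtain ⟨σ, hσ, h⟩ := htree k le_rfl x y hx (by
      show x.val / 2 ^ k = y.val / 2 ^ k
      rw [Nat.div_eq_of_lt (hlt x hx), Nat.div_eq_of_lt (hlt y hy)]) hy
    exact ⟨σ, hM hσ, h⟩
  have hto : ∀ x : Fin n, ∃ g ∈ M, g x = l := by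
    intro x
    rcases eq_or_ne x l with rfl | hx
    · exact ⟨1, one_mem _, rfl⟩
    · obtain ⟨σ, hσ, h⟩ := htrans x (g0 l) hx hmove
      exact ⟨g0⁻¹ * σ, mul_mem (inv_mem hg0) hσ, by simp [h]⟩
  haveI : MulAction.IsMultiplyPretransitive ↥M (Fin n) 2 := by
    rw [MulAction.is_two_pretransitive_iff]
    intro a b c d hab hcd
    obtain ⟨g, hg, hga⟩ := hto a
    obtain ⟨g', hg', hgc⟩ := hto c
    have h1 : g b ≠ l := fun h => hab (g.injective (hga.trans h.symm))
    have h2 : g' d ≠ l := fun h => hcd (g'.injective (hgc.trans h.symm))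
    obtain ⟨σ, hσ, hσb⟩ := htree k le_rfl (g b) (g' d) h1 (by
      show (g b).val / 2 ^ k = (g' d).val / 2 ^ k
      rw [Nat.div_eq_of_lt (hlt _ h1), Nat.div_eq_of_lt (hlt _ h2)]) h2
    have hσl := treeGroup_le_pointStab k (by rw [hn, Nat.add_mod_left, Nat.mod_eq_of_lt (by omega)]) l hl hσ.1
    rw [MulAction.mem_stabilizer_iff, Perm.smul_def] at hσl
    refine ⟨⟨g'⁻¹ * σ * g, mul_mem (mul_mem (inv_mem hg') (hM hσ)) hg⟩, ?_, ?_⟩
    · show (g'⁻¹ * σ * g) a = c
      rw [Perm.mul_apply, Perm.mul_apply, hga, hσl, ← hgc]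
      simp
    · show (g'⁻¹ * σ * g) b = d
      simp [hσb]
  have hprim : MulAction.IsPreprimitive ↥M (Fin n) :=
    MulAction.isPreprimitive_of_is_two_pretransitive inferInstance
  set p0 : Fin n := ⟨0, by omega⟩
  set p1 : Fin n := ⟨1, by omega⟩
  set p2 : Fin n := ⟨2, by omega⟩
  set p3 : Fin n := ⟨3, by omega⟩
  obtain ⟨g, hg, hgl⟩ := hto p0
  set B := g p1 with hB
  set C := g p2 with hC
  set D := g p3 with hD
  have hne : B ≠ l ∧ C ≠ l ∧ D ≠ l ∧ B ≠ C ∧ B ≠ D ∧ C ≠ D := by
    rw [← hgl]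
    simp [B, C, D, p0, p1, p2, p3, Fin.ext_iff]
  obtain ⟨hBl, hCl, hDl, hBC, hBD, hCD⟩ := hne
  have hx' : swap l B * swap C D ∈ M := by
    have h01 : swap p0 p1 * swap p2 p3 ∈ M := hM ⟨mul_mem (swap_mem_treeGroup (by simp [Same, p0, p1]))
      (swap_mem_treeGroup (by simp [Same, p2, p3])),
      Equiv.Perm.mem_alternatingGroup.2 (sign_swap_mul_swap (by simp [p0, p1, Fin.ext_iff]) (by simp [p2, p3, Fin.ext_iff]))⟩
    have := mul_mem (mul_mem hg h01) (inv_mem hg)
    rw [show g * (swap p0 p1 * swap p2 p3) * g⁻¹ = (g * swap p0 p1 * g⁻¹) * (g * swap p2 p3 * g⁻¹) by group,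
      ← Equiv.swap_apply_apply, ← Equiv.swap_apply_apply, hgl] at this
    exact this
  -- a three cycle
  suffices h3 : ∃ σ ∈ M, Equiv.Perm.IsThreeCycle σ by
    obtain ⟨σ, hσ, h3c⟩ := h3
    exact Equiv.Perm.alternatingGroup_le_of_isPreprimitive_of_isThreeCycle_mem hprim h3c hσ
  rcases lt_or_ge k 3 with hk3 | hk3
  · -- degree five: the regular group of order four on the other points
    obtain rfl : k = 2 := by omega
    norm_num at hn
    subst hn
    have e0 : p0 = (0 : Fin 5) := rfl
    have e1 : p1 = (1 : Fin 5) := rfl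
    have e2 : p2 = (2 : Fin 5) := rfl
    have e3 : p3 = (3 : Fin 5) := rfl
    rw [e0, e1, e2, e3] at *
    have hl4 : l = (4 : Fin 5) := Fin.ext (by simp; omega)
    clear_value p0 p1 p2 p3
    have hV : swap (0 : Fin 5) (1 : Fin 5) * swap (2 : Fin 5) (3 : Fin 5) ∈ evenPart 5 ∧ swap (0 : Fin 5) (2 : Fin 5) * swap (1 : Fin 5) (3 : Fin 5) ∈ evenPart 5 := by
      refine ⟨⟨mul_mem (swap_mem_treeGroup (show ((0 : Fin 5) : ℕ) / 2 ^ 1 = ((1 : Fin 5) : ℕ) / 2 ^ 1 by decide))
        (swap_mem_treeGroup (show ((2 : Fin 5) : ℕ) / 2 ^ 1 = ((3 : Fin 5) : ℕ) / 2 ^ 1 by decide)),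
        Equiv.Perm.mem_alternatingGroup.2 (sign_swap_mul_swap (by decide) (by decide))⟩, ?_,
        Equiv.Perm.mem_alternatingGroup.2 (sign_swap_mul_swap (by decide) (by decide))⟩
      obtain ⟨σ, hσ, hout, hin⟩ := exists_exchange (n := 5) 1 0 (by norm_num)
      have he : ∀ j x y, Same (n := 5) j ((swap (0 : Fin 5) (2 : Fin 5) * swap (1 : Fin 5) (3 : Fin 5)) x) ((swap (0 : Fin 5) (2 : Fin 5) * swap (1 : Fin 5) (3 : Fin 5)) y) ↔ Same j x y := by
        intro j x y
        rcases j with _ | _ | _ | j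
        · simp [same_zero]
        · revert x y; unfold Same; decide +kernel
        · revert x y; unfold Same; decide +kernel
        · exact ⟨fun _ => same_of_lt (by rw [pow_succ, pow_succ, pow_succ]; have := Nat.two_pow_pos j; omega) _ _,
            fun _ => same_of_lt (by rw [pow_succ, pow_succ, pow_succ]; have := Nat.two_pow_pos j; omega) _ _⟩
      exact he
    set u := swap (0 : Fin 5) (1 : Fin 5) * swap (2 : Fin 5) (3 : Fin 5)
    set v := swap (0 : Fin 5) (2 : Fin 5) * swap (1 : Fin 5) (3 : Fin 5)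
    have hu : u ∈ M := hM hV.1
    have hv : v ∈ M := hM hV.2
    have key : ∀ b c d : Fin 5, b ≠ (4 : Fin 5) → c ≠ (4 : Fin 5) → d ≠ (4 : Fin 5) → b ≠ c → b ≠ d → c ≠ d →
        Equiv.Perm.IsThreeCycle (u * (swap (4 : Fin 5) b * swap c d)) ∨
        Equiv.Perm.IsThreeCycle (v * (swap (4 : Fin 5) b * swap c d)) ∨
        Equiv.Perm.IsThreeCycle (u * v * (swap (4 : Fin 5) b * swap c d)) := by
      unfold Equiv.Perm.IsThreeCycle
      simp only [u, v]
      decide +kernel
    subst hl4
    rcases key B C D hBl hCl hDl hBC hBD hCD with h | h | h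
    · exact ⟨_, mul_mem hu hx', h⟩
    · exact ⟨_, mul_mem hv hx', h⟩
    · exact ⟨_, mul_mem (mul_mem hu hv) hx', h⟩
  · -- a pair meeting the support of the conjugate once, and a pair missing it
    have h8 : 8 ≤ 2 ^ k := by
      calc 8 = 2 ^ 3 := rfl
        _ ≤ 2 ^ k := Nat.pow_le_pow_right (by norm_num) hk3
    have hBk := hlt B hBl
    have hCk := hlt C hCl
    have hDk := hlt D hDl
    obtain ⟨i, hi, hiB, hiC, hiD⟩ : ∃ i, 2 * i + 1 < 2 ^ k ∧ i ≠ B.val / 2 ∧ i ≠ C.val / 2 ∧ i ≠ D.val / 2 := by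
      by_cases h0 : 0 ≠ B.val / 2 ∧ 0 ≠ C.val / 2 ∧ 0 ≠ D.val / 2
      · exact ⟨0, by omega, h0⟩
      by_cases h1 : 1 ≠ B.val / 2 ∧ 1 ≠ C.val / 2 ∧ 1 ≠ D.val / 2
      · exact ⟨1, by omega, h1⟩
      by_cases h2 : 2 ≠ B.val / 2 ∧ 2 ≠ C.val / 2 ∧ 2 ≠ D.val / 2
      · exact ⟨2, by omega, h2⟩
      exact ⟨3, by omega, by omega, by omega, by omega⟩
    obtain ⟨P, P', U, V, hPP, hmem, hrel, hiP, hP2, hP3, hP4, hiP', hiU, hiV⟩ : ∃ P P' U V : Fin n, P ≠ l ∧
        swap P P' * swap U V ∈ M ∧ [P, P', U, V].Nodup ∧ i ≠ P.val / 2 ∧ P'.val / 2 ≠ P.val / 2 ∧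
        U.val / 2 ≠ P.val / 2 ∧ V.val / 2 ≠ P.val / 2 ∧ (P'.val < 2 ^ k → i ≠ P'.val / 2) ∧
        (U.val < 2 ^ k → i ≠ U.val / 2) ∧ (V.val < 2 ^ k → i ≠ V.val / 2) := by
      have hBCD : (B.val / 2 ≠ C.val / 2 ∧ B.val / 2 ≠ D.val / 2) ∨
          (C.val / 2 ≠ B.val / 2 ∧ C.val / 2 ≠ D.val / 2) ∨
          (D.val / 2 ≠ B.val / 2 ∧ D.val / 2 ≠ C.val / 2) := by
        have : B.val ≠ C.val := fun h => hBC (Fin.ext h)
        have : B.val ≠ D.val := fun h => hBD (Fin.ext h)
        have : C.val ≠ D.val := fun h => hCD (Fin.ext h)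
        omega
      have hd : Perm.Disjoint (swap l B) (swap C D) := by
        intro x
        by_cases hxl : x = l
        · right; subst hxl; rw [swap_apply_of_ne_of_ne hCl.symm hDl.symm]
        by_cases hxB : x = B
        · right; subst hxB; rw [swap_apply_of_ne_of_ne hBC hBD]
        left; rw [swap_apply_of_ne_of_ne hxl hxB]
      have hlv : l.val = 2 ^ k := by omega
      rcases hBCD with h | h | h
      · refine ⟨B, l, C, D, hBl, by rw [swap_comm B l]; exact hx', ?_, hiB, by omega, Ne.symm h.1, Ne.symm h.2,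
          fun hh => by omega, fun _ => hiC, fun _ => hiD⟩
        simp [hBl, hBC, hBD, hCD, Ne.symm hCl, Ne.symm hDl]
      · refine ⟨C, D, l, B, hCl, by rw [← hd.commute.eq]; exact hx', ?_, hiC, Ne.symm h.2, by omega, Ne.symm h.1,
          fun _ => hiD, fun hh => by omega, fun _ => hiB⟩
        simp [hCl, hDl, Ne.symm hBl, Ne.symm hBC, Ne.symm hBD, hCD]
      · refine ⟨D, C, l, B, hDl, by rw [swap_comm D C, ← hd.commute.eq]; exact hx', ?_, hiD, Ne.symm h.2, by omega,
          Ne.symm h.1, fun _ => hiC, fun hh => by omega, fun _ => hiB⟩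
        simp [hCl, hDl, Ne.symm hBl, Ne.symm hBC, Ne.symm hBD, Ne.symm hCD]
    -- the pair of `P` and an untouched pair
    have hPk := hlt P hPP
    set Q : Fin n := ⟨if P.val % 2 = 0 then P.val + 1 else P.val - 1, by split <;> omega⟩ with hQ
    have hQv : Q.val / 2 = P.val / 2 ∧ Q.val ≠ P.val := by simp only [Q]; split <;> omega
    set R : Fin n := ⟨2 * i, by omega⟩ with hR
    set S : Fin n := ⟨2 * i + 1, by omega⟩ with hS
    have hRv : R.val / 2 = i ∧ S.val / 2 = i ∧ R.val < 2 ^ k ∧ S.val < 2 ^ k ∧ R.val ≠ S.val := by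
      simp only [R, S]; omega
    have hzm : swap P Q * swap R S ∈ M := hM ⟨mul_mem
      (swap_mem_treeGroup (by show P.val / 2 ^ 1 = Q.val / 2 ^ 1; rw [pow_one]; omega))
      (swap_mem_treeGroup (by show R.val / 2 ^ 1 = S.val / 2 ^ 1; rw [pow_one]; omega)),
      Equiv.Perm.mem_alternatingGroup.2 (sign_swap_mul_swap (by intro h; exact hQv.2 (congrArg Fin.val h).symm)
        (by intro h; exact hRv.2.2.2.2 (congrArg Fin.val h)))⟩
    simp only [List.nodup_cons, List.mem_cons, List.mem_nil_iff, or_false, not_or,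
      List.not_mem_nil, not_false_eq_true, List.nodup_nil, and_true] at hrel
    obtain ⟨⟨hPP', hPU, hPV⟩, ⟨hP'U, hP'V⟩, hUV⟩ := hrel
    have hQ7 : Q ≠ P' ∧ Q ≠ U ∧ Q ≠ V := by
      refine ⟨?_, ?_, ?_⟩ <;> intro h <;> have := congrArg Fin.val h <;> omega
    have hneRS : ∀ (w : Fin n), (w.val < 2 ^ k → i ≠ w.val / 2) → R ≠ w ∧ S ≠ w := by
      intro w hw
      constructor <;> intro h <;> have := congrArg Fin.val h <;> omega
    obtain ⟨hRP', hSP'⟩ := hneRS P' hiP'
    obtain ⟨hRU, hSU⟩ := hneRS U hiU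
    obtain ⟨hRV, hSV⟩ := hneRS V hiV
    obtain ⟨hRP, hSP⟩ := hneRS P (fun _ => hiP)
    obtain ⟨hRQ, hSQ⟩ := hneRS Q (fun _ => by omega)
    have hPQ : P ≠ Q := fun h => hQv.2 (congrArg Fin.val h).symm
    have hRS : R ≠ S := fun h => hRv.2.2.2.2 (congrArg Fin.val h)
    refine ⟨((swap P Q * swap R S) * (swap P P' * swap U V)) ^ 2, pow_mem (mul_mem hzm hmem) 2, ?_⟩
    have hcom1 : swap R S * swap P P' = swap P P' * swap R S := by
      refine (Perm.Disjoint.commute fun x => ?_).eq
      by_cases h1 : x = R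
      · right; subst h1; rw [swap_apply_of_ne_of_ne hRP hRP']
      by_cases h2 : x = S
      · right; subst h2; rw [swap_apply_of_ne_of_ne hSP hSP']
      left; rw [swap_apply_of_ne_of_ne h1 h2]
    have hdisj : Perm.Disjoint (swap R S) (swap U V) := by
      intro x
      by_cases h1 : x = R
      · right; subst h1; rw [swap_apply_of_ne_of_ne hRU hRV]
      by_cases h2 : x = S
      · right; subst h2; rw [swap_apply_of_ne_of_ne hSU hSV]
      left; rw [swap_apply_of_ne_of_ne h1 h2]
    have hre : swap P Q * swap R S * (swap P P' * swap U V) = (swap P Q * swap P P') * (swap R S * swap U V) := by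
      rw [mul_assoc, ← mul_assoc (swap R S), hcom1]
      group
    have hd2 : Perm.Disjoint (swap P Q * swap P P') (swap R S * swap U V) := by
      intro x
      by_cases h1 : x = P ∨ x = Q ∨ x = P'
      · right
        rw [Perm.mul_apply]
        rcases h1 with rfl | rfl | rfl
        · rw [swap_apply_of_ne_of_ne (a := U) (b := V) hPU hPV, swap_apply_of_ne_of_ne hRP.symm hSP.symm]
        · rw [swap_apply_of_ne_of_ne (a := U) (b := V) hQ7.2.1 hQ7.2.2, swap_apply_of_ne_of_ne hRQ.symm hSQ.symm]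
        · rw [swap_apply_of_ne_of_ne (a := U) (b := V) hP'U hP'V, swap_apply_of_ne_of_ne hRP'.symm hSP'.symm]
      · left
        simp only [not_or] at h1
        rw [Perm.mul_apply, swap_apply_of_ne_of_ne h1.1 h1.2.2, swap_apply_of_ne_of_ne h1.1 h1.2.1]
    have hsq : ((swap R S * swap U V) : Perm (Fin n)) ^ 2 = 1 := by
      rw [sq, mul_assoc, ← mul_assoc (swap U V), ← hdisj.commute.eq]
      simp [mul_assoc]
    rw [hre, hd2.commute.mul_pow, hsq, mul_one, sq]
    exact (Equiv.Perm.isThreeCycle_swap_mul_swap_same hPQ hPP' hQ7.1).isThreeCycle_sq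

end CfsgLib.KnownSimple51.SylowOvergroups
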