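import Mathlib

/-!
# The binary tree Sylow 2-subgroup of the symmetric and alternating groups

`treeGroup n` is the group of permutations of `Fin n` respecting all the relations
`x / 2 ^ j = y / 2 ^ j`. For `n ≥ 6` it is self-normalizing in `Perm (Fin n)`, and so is its even
part in the alternating group; in particular these are Sylow 2-subgroups.
-/

set_option autoImplicit false

namespace CfsgLib.KnownSimple51.TreeSylow

open Equiv

variable {n : ℕ}

/-- Two points lie in the same node of level `j`. -/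
def Same (j : ℕ) (x y : Fin n) : Prop := x.val / 2 ^ j = y.val / 2 ^ j

/-- The permutations respecting every level. -/
def treeGroup (n : ℕ) : Subgroup (Perm (Fin n)) where
  carrier := {σ | ∀ j x y, Same j (σ x) (σ y) ↔ Same j x y}
  one_mem' := fun _ _ _ => Iff.rfl
  mul_mem' {a b} ha hb j x y := (ha j (b x) (b y)).trans (hb j x y)
  inv_mem' {a} ha j x y := by
    have := ha j (a⁻¹ x) (a⁻¹ y)
    simpa using this.symm

lemma mem_treeGroup {σ : Perm (Fin n)} :
    σ ∈ treeGroup n ↔ ∀ j x y, Same j (σ x) (σ y) ↔ Same j x y := Iff.rfl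

lemma same_refl (j : ℕ) (x : Fin n) : Same j x x := rfl

lemma same_symm {j : ℕ} {x y : Fin n} (h : Same j x y) : Same j y x := Eq.symm h

lemma same_trans {j : ℕ} {x y z : Fin n} (h : Same j x y) (h' : Same j y z) : Same j x z :=
  Eq.trans h h'

lemma same_zero {x y : Fin n} : Same 0 x y ↔ x = y := by simp [Same, Fin.ext_iff]

lemma same_succ {j : ℕ} {x y : Fin n} (h : Same j x y) : Same (j + 1) x y := by
  have h' : x.val / 2 ^ j = y.val / 2 ^ j := h
  show x.val / 2 ^ (j + 1) = y.val / 2 ^ (j + 1)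
  rw [pow_succ, ← Nat.div_div_eq_div_mul, ← Nat.div_div_eq_div_mul, h']

lemma same_of_lt {j : ℕ} (hj : n ≤ 2 ^ j) (x y : Fin n) : Same j x y := by
  show x.val / 2 ^ j = y.val / 2 ^ j
  rw [Nat.div_eq_of_lt (by omega), Nat.div_eq_of_lt (by omega)]

/-- A node has at most two children. -/
lemma same_or_three {j : ℕ} {x y z : Fin n} (h1 : Same (j + 1) x y) (h2 : Same (j + 1) x z) :
    Same j x y ∨ Same j x z ∨ Same j y z := by
  unfold Same at *
  rw [pow_succ, ← Nat.div_div_eq_div_mul, ← Nat.div_div_eq_div_mul] at h1 h2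
  omega

lemma pow_two_pow_fixes (σ : Perm (Fin n)) (hσ : σ ∈ treeGroup n) (N : ℕ) (hN : n ≤ 2 ^ N) :
    ∀ i ≤ N, ∀ x, Same (N - i) ((σ ^ (2 ^ i)) x) x := by
  intro i
  induction i with
  | zero => exact fun _ x => same_of_lt (by simpa using hN) _ _
  | succ i ih =>
    intro hi x
    have hmem : σ ^ (2 ^ i) ∈ treeGroup n := pow_mem hσ _
    set τ := σ ^ (2 ^ i) with hτ
    have hji : N - i = (N - (i + 1)) + 1 := by omega
    have h1 : Same ((N - (i + 1)) + 1) x (τ x) := hji ▸ same_symm (ih (by omega) x)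
    have h2 : Same ((N - (i + 1)) + 1) x (τ (τ x)) :=
      same_trans h1 (hji ▸ same_symm (ih (by omega) (τ x)))
    have heq : (σ ^ (2 ^ (i + 1))) x = τ (τ x) := by
      rw [pow_succ, mul_comm, two_mul, pow_add, Perm.mul_apply]
    rw [heq]
    rcases same_or_three h1 h2 with h | h | h
    · exact same_trans ((mem_treeGroup.1 hmem _ _ _).2 (same_symm h)) (same_symm h)
    · exact same_symm h
    · exact same_trans ((mem_treeGroup.1 hmem _ _ _).2
        (same_symm ((mem_treeGroup.1 hmem _ _ _).1 h))) (same_symm ((mem_treeGroup.1 hmem _ _ _).1 h))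

lemma isPGroup_treeGroup (n : ℕ) : IsPGroup 2 ↥(treeGroup n) := by
  rintro ⟨σ, hσ⟩
  refine ⟨n, Subtype.ext (Perm.ext fun x => ?_)⟩
  have := pow_two_pow_fixes σ hσ n Nat.lt_two_pow_self.le n le_rfl x
  rw [Nat.sub_self, same_zero] at this
  simpa using this

/-- The permutations of the tree group which are even. -/
def evenPart (n : ℕ) : Subgroup (Perm (Fin n)) := treeGroup n ⊓ alternatingGroup (Fin n)

/-- Membership through a "shift" inside one node. -/
lemma mem_treeGroup_of_shift {σ : Perm (Fin n)} (j : ℕ)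
    (hlo : ∀ i ≤ j, ∀ x y, Same i x y → Same i (σ x) (σ y))
    (hhi : ∀ i, j < i → ∀ x, Same i (σ x) x) (hinv : ∀ x, σ (σ x) = x) : σ ∈ treeGroup n := by
  intro i x y
  rcases Nat.lt_or_ge j i with hi | hi
  · exact ⟨fun h => same_trans (same_symm (hhi i hi x)) (same_trans h (hhi i hi y)),
      fun h => same_trans (hhi i hi x) (same_trans h (same_symm (hhi i hi y)))⟩
  · refine ⟨fun h => ?_, hlo i hi x y⟩
    have := hlo i hi _ _ h
    rwa [hinv, hinv] at this

/-- Exchange the two children of a complete node. -/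
lemma exists_exchange (j c : ℕ) (hc : (c + 1) * 2 ^ (j + 1) ≤ n) :
    ∃ σ ∈ treeGroup n, (∀ x : Fin n, x.val / 2 ^ (j + 1) ≠ c → σ x = x) ∧
      ∀ x : Fin n, x.val / 2 ^ (j + 1) = c → Same (j + 1) (σ x) x ∧ ¬ Same j (σ x) x := by
  classical
  set a := 2 ^ j with ha
  have ha0 : 0 < a := Nat.two_pow_pos j
  have h2 : 2 ^ (j + 1) = 2 * a := by rw [pow_succ, ha]; ring
  rw [h2] at hc
  simp only [h2]
  let f : Fin n → Fin n := fun x =>
    if hx : x.val / (2 * a) = c then
      (if hm : x.val % (2 * a) < a then ⟨x.val + a, by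
          have := Nat.div_add_mod x.val (2 * a)
          rw [hx] at this
          have : (c + 1) * (2 * a) = 2 * a * c + 2 * a := by ring
          omega⟩
        else ⟨x.val - a, by omega⟩)
    else x
  have hdm : ∀ x : Fin n, x.val / (2 * a) = c → x.val % (2 * a) < a →
      (x.val + a) / (2 * a) = c ∧ (x.val + a) % (2 * a) = x.val % (2 * a) + a ∧ (x.val + a) / a = x.val / a + 1 := by
    intro x hx hm
    have h := Nat.div_add_mod x.val (2 * a)
    rw [hx] at h
    refine ⟨?_, ?_, Nat.add_div_right _ ha0⟩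
    · apply Nat.div_eq_of_lt_le
      · rw [show c * (2 * a) = 2 * a * c by ring]; omega
      · rw [show c.succ * (2 * a) = 2 * a * c + 2 * a by rw [Nat.succ_eq_add_one]; ring]; omega
    · rw [show x.val + a = (x.val % (2 * a) + a) + 2 * a * c by omega, Nat.add_mul_mod_self_left,
        Nat.mod_eq_of_lt (by omega)]
  have hdm' : ∀ x : Fin n, x.val / (2 * a) = c → ¬ x.val % (2 * a) < a →
      (x.val - a) / (2 * a) = c ∧ (x.val - a) % (2 * a) = x.val % (2 * a) - a ∧ a ≤ x.val := by
    intro x hx hm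
    have h := Nat.div_add_mod x.val (2 * a)
    rw [hx] at h
    have := Nat.mod_lt x.val (show 0 < 2 * a by omega)
    have hxa : x.val - a = (x.val % (2 * a) - a) + 2 * a * c := by omega
    refine ⟨?_, ?_, by omega⟩
    · apply Nat.div_eq_of_lt_le
      · rw [hxa, show c * (2 * a) = 2 * a * c by ring]; omega
      · rw [hxa, show c.succ * (2 * a) = 2 * a * c + 2 * a by rw [Nat.succ_eq_add_one]; ring]; omega
    · rw [hxa, Nat.add_mul_mod_self_left, Nat.mod_eq_of_lt (by omega)]
  have hf : Function.Involutive f := by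
    intro x
    by_cases hx : x.val / (2 * a) = c
    · by_cases hm : x.val % (2 * a) < a
      · obtain ⟨h1, h3, -⟩ := hdm x hx hm
        simp [f, hx, hm, h1, h3]
      · obtain ⟨h1, h3, h4⟩ := hdm' x hx hm
        have hlt : x.val % (2 * a) - a < a := by
          have := Nat.mod_lt x.val (show 0 < 2 * a by omega); omega
        apply Fin.ext
        simp [f, hx, hm, h1, h3, hlt]
        omega
    · simp [f, hx]
  have hkey : ∀ i ≤ j, ∀ x : Fin n, (f x).val / 2 ^ i =
      if x.val / (2 * a) = c then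
        (if (x.val / 2 ^ i) % (2 * 2 ^ (j - i)) < 2 ^ (j - i) then x.val / 2 ^ i + 2 ^ (j - i)
          else x.val / 2 ^ i - 2 ^ (j - i))
      else x.val / 2 ^ i := by
    intro i hi x
    have haij : a = 2 ^ i * 2 ^ (j - i) := by rw [ha, ← pow_add]; congr 1; omega
    have hpos : 0 < 2 ^ i := Nat.two_pow_pos i
    have hmod : (x.val / 2 ^ i) % (2 * 2 ^ (j - i)) = x.val % (2 * a) / 2 ^ i := by
      rw [show 2 * a = 2 ^ i * (2 * 2 ^ (j - i)) by rw [haij]; ring, Nat.mod_mul_right_div_self]
    by_cases hx : x.val / (2 * a) = c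
    · by_cases hm : x.val % (2 * a) < a
      · have hm' : x.val % (2 * a) / 2 ^ i < 2 ^ (j - i) :=
          Nat.div_lt_of_lt_mul (haij ▸ hm)
        simp [f, hx, hm, hmod, hm']
        rw [haij, Nat.add_mul_div_left _ _ hpos]
      · have hm' : ¬ x.val % (2 * a) / 2 ^ i < 2 ^ (j - i) := by
          rw [Nat.not_lt, Nat.le_div_iff_mul_le hpos, mul_comm, ← haij]
          omega
        simp [f, hx, hm, hmod, hm']
        rw [haij, Nat.sub_mul_div]
    · simp [f, hx]
  refine ⟨hf.toPerm, mem_treeGroup_of_shift j ?_ ?_ hf, ?_, ?_⟩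
  · intro i hi x y hxy
    have hxy' : x.val / 2 ^ i = y.val / 2 ^ i := hxy
    have hdd : 2 * a = 2 ^ i * (2 * 2 ^ (j - i)) := by
      rw [ha, mul_left_comm, ← pow_add]; congr 2; omega
    have hc' : x.val / (2 * a) = y.val / (2 * a) := by
      rw [hdd, ← Nat.div_div_eq_div_mul x.val (2 ^ i), ← Nat.div_div_eq_div_mul y.val (2 ^ i), hxy']
    show (f x).val / 2 ^ i = (f y).val / 2 ^ i
    rw [hkey i hi, hkey i hi, hxy', hc']
  · intro i hi x
    obtain ⟨k, rfl⟩ := Nat.exists_eq_add_of_le hi
    show (f x).val / 2 ^ (j + 1 + k) = x.val / 2 ^ (j + 1 + k)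
    rw [pow_add, ← Nat.div_div_eq_div_mul, ← Nat.div_div_eq_div_mul, h2]
    congr 1
    by_cases hx : x.val / (2 * a) = c
    · by_cases hm : x.val % (2 * a) < a
      · simp [f, hx, hm, (hdm x hx hm).1]
      · simp [f, hx, hm, (hdm' x hx hm).1]
    · simp [f, hx]
  · intro x hx
    simp [f, hx]
  · intro x hx
    have : x.val / (2 * a) = c := hx
    refine ⟨?_, ?_⟩
    · show (f x).val / 2 ^ (j + 1) = x.val / 2 ^ (j + 1)
      rw [h2]
      by_cases hm : x.val % (2 * a) < a
      · simp [f, hx, hm, (hdm x hx hm).1]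
      · simp [f, hx, hm, (hdm' x hx hm).1]
    · show ¬ (f x).val / 2 ^ j = x.val / 2 ^ j
      by_cases hm : x.val % (2 * a) < a
      · simp [f, hx, hm, ← ha, (hdm x hx hm).2.2]
      · simp [f, hx, hm, ← ha]
        have h4 := (hdm' x hx hm).2.2
        rw [show x.val / a = (x.val - a + a) / a by rw [Nat.sub_add_cancel h4], Nat.add_div_right _ ha0]
        omega

/-- The swap of a pair of leaves. -/
lemma swap_mem_treeGroup {x y : Fin n} (h : Same 1 x y) : Equiv.swap x y ∈ treeGroup n := by
  refine mem_treeGroup_of_shift 0 (fun i hi a b hab => ?_) (fun i hi a => ?_) (fun a => by simp)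
  · obtain rfl : i = 0 := by omega
    rw [same_zero] at hab ⊢
    rw [hab]
  · obtain ⟨k, rfl⟩ := Nat.exists_eq_add_of_le hi
    have hup : ∀ k, Same (0 + 1 + k) x y := fun k => by
      induction k with
      | zero => exact h
      | succ k ih => exact same_succ ih
    rw [Equiv.swap_apply_def]
    split_ifs with h1 h2
    · exact h1 ▸ same_symm (hup k)
    · exact h2 ▸ hup k
    · rfl

/-- A partner in the pair of a point below the last complete pair. -/
lemma exists_exchange_even {j : ℕ} (hj : 1 ≤ j) (x : Fin n) (hx : (x.val / 2 ^ (j + 1) + 1) * 2 ^ (j + 1) ≤ n) :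
    ∃ σ ∈ evenPart n, (∀ z : Fin n, ¬ Same (j + 1) z x → σ z = z) ∧
      Same (j + 1) (σ x) x ∧ ¬ Same j (σ x) x := by
  obtain ⟨σ, hσ, hout, hin⟩ := exists_exchange j _ hx
  rcases Int.units_eq_one_or (Perm.sign σ) with hs | hs
  · exact ⟨σ, ⟨hσ, Equiv.Perm.mem_alternatingGroup.2 hs⟩, hout, hin x rfl⟩
  · -- correct the parity by the swap of the pair of `x`
    have hpair : ∃ y : Fin n, y ≠ x ∧ Same 1 y x := by
      have h2 : 2 ^ (j + 1) = 2 * 2 ^ j := by rw [pow_succ, mul_comm]
      have hlt : (x.val / 2 + 1) * 2 ≤ n := by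
        have h4 := Nat.div_add_mod x.val (2 ^ (j + 1))
        have h5 := Nat.mod_lt x.val (Nat.two_pow_pos (j + 1))
        rcases Nat.even_or_odd' x.val with ⟨r, hr | hr⟩ <;>
          · rw [h2] at h4 h5 hx
            have h6 : x.val / (2 * 2 ^ j) * (2 * 2 ^ j) = 2 * (x.val / (2 * 2 ^ j) * 2 ^ j) := by ring
            have h7 : 2 * 2 ^ j * (x.val / (2 * 2 ^ j)) = 2 * (x.val / (2 * 2 ^ j) * 2 ^ j) := by ring
            rw [add_mul, one_mul, h6] at hx
            rw [h7] at h4
            omega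
      refine ⟨⟨if x.val % 2 = 0 then x.val + 1 else x.val - 1, by split <;> omega⟩, ?_, ?_⟩
      · rw [Ne, Fin.ext_iff]; simp only; split <;> omega
      · show (_ : ℕ) / 2 ^ 1 = x.val / 2 ^ 1
        simp only [pow_one]
        split <;> omega
    obtain ⟨y, hyx, hy⟩ := hpair
    have hupj : ∀ i, 1 ≤ i → Same i y x := fun i hi => by
      induction i, hi using Nat.le_induction with
      | base => exact hy
      | succ i _ ih => exact same_succ ih
    refine ⟨σ * Equiv.swap x y, ⟨mul_mem hσ (swap_mem_treeGroup (same_symm hy)),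
      Equiv.Perm.mem_alternatingGroup.2 (by rw [map_mul, hs, Perm.sign_swap hyx.symm]; decide)⟩, ?_, ?_, ?_⟩
    · intro z hz
      rw [Perm.mul_apply, Equiv.swap_apply_of_ne_of_ne, hout z hz]
      · rintro rfl; exact hz (same_refl _ _)
      · rintro rfl; exact hz (hupj _ (by omega))
    · rw [Perm.mul_apply, Equiv.swap_apply_left]
      exact same_trans (hin y (hupj (j + 1) (by omega))).1 (hupj _ (by omega))
    · rw [Perm.mul_apply, Equiv.swap_apply_left]
      intro h
      exact (hin y (hupj (j + 1) (by omega))).2 (same_trans h (same_symm (hupj j hj)))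

/-- An exchange of two nodes of level `j`. -/
def Exch (P : Subgroup (Perm (Fin n))) (j : ℕ) (x y : Fin n) : Prop :=
  ¬ Same j x y ∧ ∃ σ ∈ P, Same j (σ x) y ∧ ∀ z, ¬ Same j z x → ¬ Same j z y → σ z = z

lemma same_succ_of_exch {j : ℕ} {x y : Fin n} (h : Exch (treeGroup n) j x y) :
    Same (j + 1) x y ∧ (x.val / 2 ^ (j + 1) + 1) * 2 ^ (j + 1) ≤ n := by
  classical
  obtain ⟨hne, σ, hσ, hxy, hfix⟩ := h
  have hmoved : ∀ z, Same (j + 1) z x → Same (j + 1) (σ z) (σ x) := fun z hz => (hσ _ _ _).2 hz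
  -- the image of the node of `y` is the node of `x`
  have hyx : Same j (σ y) x := by
    by_contra hc
    by_cases hy2 : Same j (σ y) y
    · exact hne ((hσ _ _ _).1 (same_trans hxy (same_symm hy2)))
    · have : σ (σ y) = σ y := hfix _ hc hy2
      exact hy2 (by rw [σ.injective this]; exact same_refl _ _)
  have hsib : Same (j + 1) x y := by
    by_contra hc
    -- some point of the node of `x` outside the child of `x`
    have hd := Nat.div_add_mod x.val (2 ^ (j + 1))
    by_cases hex : ∃ z, Same (j + 1) z x ∧ ¬ Same j z x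
    · obtain ⟨z, hz1, hz2⟩ := hex
      have hzy : ¬ Same j z y := fun h => hc (same_trans (same_symm hz1) (same_succ h))
      have := hmoved z hz1
      rw [hfix z hz2 hzy] at this
      exact hc (same_trans (same_symm hz1) (same_trans this (same_succ hxy)))
    · by_cases hey : ∃ z, Same (j + 1) z y ∧ ¬ Same j z y
      · obtain ⟨z, hz1, hz2⟩ := hey
        have hzx : ¬ Same j z x := fun h => hc (same_trans (same_symm (same_succ h)) hz1)
        have := (hσ (j + 1) z y).2 hz1
        rw [hfix z hzx hz2] at this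
        exact hc (same_symm (same_trans (same_symm hz1) (same_trans this (same_succ hyx))))
      · push_neg at hex hey
        -- both nodes have one child only, so both are the last node
        have key : ∀ w : Fin n, (∀ z, Same (j + 1) z w → Same j z w) → n < (w.val / 2 ^ (j + 1) + 1) * 2 ^ (j + 1) := by
          intro w hw
          by_contra hle
          rw [Nat.not_lt] at hle
          obtain ⟨τ, -, -, hτ⟩ := exists_exchange j _ hle
          exact (hτ w rfl).2 (hw _ (hτ w rfl).1)
        apply hc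
        show x.val / 2 ^ (j + 1) = y.val / 2 ^ (j + 1)
        have hb : ∀ w : Fin n, (∀ z, Same (j + 1) z w → Same j z w) → w.val / 2 ^ (j + 1) = n / 2 ^ (j + 1) := by
          intro w hw
          apply le_antisymm (Nat.div_le_div_right w.2.le)
          exact Nat.lt_succ_iff.1 (Nat.div_lt_of_lt_mul (by rw [mul_comm]; exact key w hw))
        rw [hb x hex, hb y hey]
  refine ⟨hsib, ?_⟩
  by_contra hfull
  rw [Nat.not_le] at hfull
  set c := x.val / 2 ^ (j + 1) with hc
  have hcy : y.val / 2 ^ (j + 1) = c := Eq.symm hsib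
  have hp : 2 ^ (j + 1) = 2 ^ j * 2 := pow_succ 2 j
  have hclass : ∀ w : Fin n, w.val / 2 ^ (j + 1) = c → w.val / 2 ^ j = 2 * c ∨ w.val / 2 ^ j = 2 * c + 1 := by
    intro w hw
    rw [hp, ← Nat.div_div_eq_div_mul] at hw
    omega
  -- the first child is complete and is mapped into the second one
  have inj : ∀ a b : Fin n, a.val / 2 ^ j = 2 * c → b.val / 2 ^ j = 2 * c + 1 →
      (∀ z, Same j z a → Same j (σ z) b) → False := by
    intro a b ha hb hmap
    have hb2 := Nat.div_add_mod b.val (2 ^ j)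
    rw [hb] at hb2
    have e1 : 2 ^ j * (2 * c + 1) = 2 * (c * 2 ^ j) + 2 ^ j := by ring
    have e2 : (c + 1) * 2 ^ (j + 1) = 2 * (c * 2 ^ j) + 2 * 2 ^ j := by ring
    rw [e1] at hb2
    rw [e2] at hfull
    set K := c * 2 ^ j with hK
    have hbn := b.2
    -- injection of `2 ^ j` points into fewer
    let f : Fin (2 ^ j) → Fin (n - (2 * K + 2 ^ j)) := fun i =>
      ⟨(σ ⟨2 * K + i.val, by omega⟩).val - (2 * K + 2 ^ j), by
        have := (σ ⟨2 * K + i.val, by omega⟩).2
        omega⟩
    have hfinj : Function.Injective f := by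
      intro i i' hii
      have himg : ∀ t : Fin (2 ^ j), ∀ ht : 2 * K + t.val < n, 2 * K + 2 ^ j ≤ (σ ⟨2 * K + t.val, ht⟩).val := by
        intro t ht
        have hz : Same j (⟨2 * K + t.val, ht⟩ : Fin n) a := by
          show (2 * K + t.val) / 2 ^ j = a.val / 2 ^ j
          rw [ha, show 2 * K + t.val = t.val + 2 ^ j * (2 * c) by rw [hK]; ring,
            Nat.add_mul_div_left _ _ (Nat.two_pow_pos j), Nat.div_eq_of_lt t.2, zero_add]
        have h3 : (σ ⟨2 * K + t.val, ht⟩).val / 2 ^ j = 2 * c + 1 := (hmap _ hz).trans hb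
        have h4 := Nat.div_add_mod (σ ⟨2 * K + t.val, ht⟩).val (2 ^ j)
        rw [h3, e1] at h4
        omega
      have := congrArg Fin.val hii
      simp only [f] at this
      have hi := himg i (by omega)
      have hi' := himg i' (by omega)
      have h5 : σ ⟨2 * K + i.val, by omega⟩ = σ ⟨2 * K + i'.val, by omega⟩ := Fin.ext (by omega)
      have h6 := σ.injective h5
      simp only [Fin.mk.injEq] at h6
      exact Fin.ext (by omega)
    have := Fintype.card_le_of_injective f hfinj
    simp at this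
    omega
  have hne' : x.val / 2 ^ j ≠ y.val / 2 ^ j := hne
  rcases hclass x rfl with h1 | h1 <;> rcases hclass y hcy with h2 | h2
  · exact hne' (h1.trans h2.symm)
  · exact inj x y h1 h2 fun z hz => same_trans ((hσ _ _ _).2 hz) hxy
  · exact inj y x h2 h1 fun z hz => same_trans ((hσ _ _ _).2 hz) hyx
  · exact hne' (h1.trans h2.symm)

/-- A pair common to two double transpositions of `P`. -/
def PairRel (P : Subgroup (Perm (Fin n))) (x y : Fin n) : Prop :=
  x ≠ y ∧ ∃ a b c d : Fin n, [x, y, a, b, c, d].Nodup ∧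
    Equiv.swap x y * Equiv.swap a b ∈ P ∧ Equiv.swap x y * Equiv.swap c d ∈ P

lemma same_one_of_pairRel {x y : Fin n} (h : PairRel (treeGroup n) x y) : Same 1 x y := by
  obtain ⟨hne, a, b, c, d, hnd, h1, h2⟩ := h
  simp only [List.nodup_cons, List.mem_cons, List.mem_nil_iff, or_false, not_or,
    List.not_mem_nil, not_false_eq_true, List.nodup_nil, and_true] at hnd
  obtain ⟨⟨-, hxa, hxb, hxc, hxd⟩, ⟨hya, hyb, hyc, hyd⟩, ⟨hab, hac, had⟩, ⟨hbc, hbd⟩, hcd⟩ := hnd
  by_contra hc
  have hkey : ∀ (u v : Fin n), x ≠ u → x ≠ v → y ≠ u → y ≠ v →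
      Equiv.swap x y * Equiv.swap u v ∈ treeGroup n → ∀ x', x' ≠ x → Same 1 x' x → x' = u ∨ x' = v := by
    intro u v hxu hxv hyu hyv hm x' hx' hsame
    by_contra hcon
    rw [not_or] at hcon
    have h3 := (hm 1 x' x).2 hsame
    rw [Perm.mul_apply, Perm.mul_apply, Equiv.swap_apply_of_ne_of_ne hcon.1 hcon.2,
      Equiv.swap_apply_of_ne_of_ne (a := u) (b := v) (x := x) hxu hxv, Equiv.swap_apply_left,
      Equiv.swap_apply_def, if_neg hx'] at h3
    split_ifs at h3 with hy'
    · exact hc (same_trans (same_symm hsame) (hy' ▸ same_refl _ _))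
    · exact hc (same_trans (same_symm hsame) h3)
  -- `x` has a partner
  have hpartner : ∃ x', x' ≠ x ∧ Same 1 x' x := by
    by_cases hxn : x.val % 2 = 1 ∨ x.val + 1 < n
    · refine ⟨⟨if x.val % 2 = 0 then x.val + 1 else x.val - 1, by split <;> omega⟩, ?_, ?_⟩
      · rw [Ne, Fin.ext_iff]; simp only; split <;> omega
      · show (_ : ℕ) / 2 ^ 1 = x.val / 2 ^ 1
        simp only [pow_one]
        split <;> omega
    · -- then `y` is not the last point, and its partner is mapped to a partner of `x`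
      have hyn : y.val % 2 = 1 ∨ y.val + 1 < n := by
        have : x.val ≠ y.val := fun h => hne (Fin.ext h)
        omega
      let y' : Fin n := ⟨if y.val % 2 = 0 then y.val + 1 else y.val - 1, by split <;> omega⟩
      have hy'y : y' ≠ y := by rw [Ne, Fin.ext_iff]; simp only [y']; split <;> omega
      have hs : Same 1 y' y := by
        show (_ : ℕ) / 2 ^ 1 = y.val / 2 ^ 1
        simp only [y', pow_one]
        split <;> omega
      refine ⟨(Equiv.swap x y * Equiv.swap a b) y', ?_, ?_⟩
      · intro he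
        apply hy'y
        apply (Equiv.swap x y * Equiv.swap a b).injective
        rw [he, Perm.mul_apply, Equiv.swap_apply_of_ne_of_ne hya hyb, Equiv.swap_apply_right]
      · have := (h1 1 y' y).2 hs
        rwa [Perm.mul_apply (Equiv.swap x y) (Equiv.swap a b) y, Equiv.swap_apply_of_ne_of_ne hya hyb,
          Equiv.swap_apply_right] at this
  obtain ⟨x', hx', hsame⟩ := hpartner
  rcases hkey a b hxa hxb hya hyb h1 x' hx' hsame with rfl | rfl <;>
    rcases hkey c d hxc hxd hyc hyd h2 x' hx' hsame with rfl | rfl <;> simp_all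

lemma pairRel_of_same_one (hn : 6 ≤ n) {x y : Fin n} (hne : x ≠ y) (h : Same 1 x y) :
    PairRel (evenPart n) x y := by
  have h' : x.val / 2 = y.val / 2 := by simpa [Same] using h
  have hv : x.val ≠ y.val := fun e => hne (Fin.ext e)
  obtain ⟨u, v, hu, hv', huv, hux, hvx⟩ : ∃ u v : ℕ, u < 3 ∧ v < 3 ∧ u ≠ v ∧ u ≠ x.val / 2 ∧ v ≠ x.val / 2 := by
    rcases (show x.val / 2 = 0 ∨ x.val / 2 = 1 ∨ 2 ≤ x.val / 2 by omega) with e | e | e
    · exact ⟨1, 2, by omega, by omega, by omega, by omega, by omega⟩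
    · exact ⟨0, 2, by omega, by omega, by omega, by omega, by omega⟩
    · exact ⟨0, 1, by omega, by omega, by omega, by omega, by omega⟩
  refine ⟨hne, ⟨2 * u, by omega⟩, ⟨2 * u + 1, by omega⟩, ⟨2 * v, by omega⟩, ⟨2 * v + 1, by omega⟩, ?_, ?_, ?_⟩
  · simp [Fin.ext_iff]
    omega
  · refine ⟨mul_mem (swap_mem_treeGroup h) (swap_mem_treeGroup (by simp [Same]; omega)), ?_⟩
    exact Equiv.Perm.mem_alternatingGroup.2 (by
      rw [map_mul, Perm.sign_swap hne, Perm.sign_swap (by simp [Fin.ext_iff])]; decide)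
  · refine ⟨mul_mem (swap_mem_treeGroup h) (swap_mem_treeGroup (by simp [Same]; omega)), ?_⟩
    exact Equiv.Perm.mem_alternatingGroup.2 (by
      rw [map_mul, Perm.sign_swap hne, Perm.sign_swap (by simp [Fin.ext_iff])]; decide)

/-- Anything normalizing the even part of the tree group lies in the tree group. -/
theorem mem_treeGroup_of_normalizes (hn : 6 ≤ n) (g : Perm (Fin n))
    (hg : ∀ σ, σ ∈ evenPart n ↔ g * σ * g⁻¹ ∈ evenPart n) : g ∈ treeGroup n := by
  have hg' : ∀ σ, σ ∈ evenPart n ↔ g⁻¹ * σ * g ∈ evenPart n := fun σ => by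
    rw [hg (g⁻¹ * σ * g)]; simp [mul_assoc]
  have hconjsw : ∀ (h : Perm (Fin n)) (x y a b : Fin n), h * (Equiv.swap x y * Equiv.swap a b) * h⁻¹ =
      Equiv.swap (h x) (h y) * Equiv.swap (h a) (h b) := by
    intro h x y a b
    rw [show h * (Equiv.swap x y * Equiv.swap a b) * h⁻¹ = (h * Equiv.swap x y * h⁻¹) * (h * Equiv.swap a b * h⁻¹) by group,
      Equiv.swap_apply_apply, Equiv.swap_apply_apply]
  -- forward implication for every conjugating element
  have fwd : ∀ (h : Perm (Fin n)), (∀ σ, σ ∈ evenPart n → h * σ * h⁻¹ ∈ evenPart n) →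
      ∀ x y, Same 1 x y → Same 1 (h x) (h y) := by
    intro h hh x y hxy
    rcases eq_or_ne x y with rfl | hne
    · exact same_refl _ _
    obtain ⟨-, a, b, c, d, hnd, h1, h2⟩ := pairRel_of_same_one hn hne hxy
    apply same_one_of_pairRel
    refine ⟨fun e => hne (h.injective e), h a, h b, h c, h d, ?_, ?_, ?_⟩
    · simpa using (List.nodup_map_iff h.injective).2 hnd
    · rw [← hconjsw]; exact (hh _ h1).1
    · rw [← hconjsw]; exact (hh _ h2).1
  have hpos : ∀ σ, σ ∈ evenPart n → g * σ * g⁻¹ ∈ evenPart n := fun σ h => (hg σ).1 h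
  have hneg : ∀ σ, σ ∈ evenPart n → g⁻¹ * σ * g⁻¹⁻¹ ∈ evenPart n := fun σ h => by
    rw [inv_inv]; exact (hg' σ).1 h
  intro j
  induction j with
  | zero => intro x y; simp [same_zero]
  | succ j ih =>
    rcases Nat.eq_zero_or_pos j with rfl | hj
    · intro x y
      refine ⟨fun h => ?_, fwd g hpos x y⟩
      simpa using fwd g⁻¹ hneg _ _ h
    -- higher levels
    have fwdj : ∀ (h : Perm (Fin n)), (∀ σ, σ ∈ evenPart n → h * σ * h⁻¹ ∈ evenPart n) →
        (∀ σ, σ ∈ evenPart n → h⁻¹ * σ * h ∈ evenPart n) →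
        (∀ x y, Same j (h x) (h y) ↔ Same j x y) → ∀ x y, Same (j + 1) x y → Same (j + 1) (h x) (h y) := by
      intro h hh hh' hjh x y hxy
      have exch : ∀ u : Fin n, (u.val / 2 ^ (j + 1) + 1) * 2 ^ (j + 1) ≤ n →
          ∃ w, Same (j + 1) w u ∧ Exch (evenPart n) j u w := by
        intro u hu
        obtain ⟨σ, hσ, hout, h1, h2⟩ := exists_exchange_even hj u hu
        refine ⟨σ u, h1, fun e => h2 (same_symm e), σ, hσ, same_refl _ _, fun z hz1 hz2 => hout z fun hz => ?_⟩
        rcases same_or_three hz (same_trans hz (same_symm h1)) with e | e | e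
        · exact hz1 e
        · exact hz2 e
        · exact h2 (same_symm e)
      have transport : ∀ (k : Perm (Fin n)), (∀ σ, σ ∈ evenPart n → k * σ * k⁻¹ ∈ evenPart n) →
          (∀ x y, Same j (k x) (k y) ↔ Same j x y) → ∀ u w, Exch (evenPart n) j u w →
          Exch (treeGroup n) j (k u) (k w) := by
        rintro k hk hkj u w ⟨hne, σ, hσ, h1, h2⟩
        refine ⟨fun e => hne ((hkj _ _).1 e), k * σ * k⁻¹, (hk σ hσ).1, ?_, ?_⟩
        · simpa using (hkj _ _).2 h1
        · intro z hz1 hz2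
          obtain ⟨z, rfl⟩ := k.surjective z
          simp [h2 z (fun e => hz1 ((hkj _ _).2 e)) (fun e => hz2 ((hkj _ _).2 e))]
      have hjh' : ∀ x y, Same j (h⁻¹ x) (h⁻¹ y) ↔ Same j x y := fun x y => by
        rw [← hjh]; simp
      by_cases hx : (x.val / 2 ^ (j + 1) + 1) * 2 ^ (j + 1) ≤ n
      · obtain ⟨w, hw, hexw⟩ := exch x hx
        have h1 := (same_succ_of_exch (transport h hh hjh x w hexw)).1
        rcases same_or_three hxy (same_symm hw) with e | e | e
        · exact same_succ ((hjh _ _).2 e)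
        · exact absurd e hexw.1
        · exact same_trans h1 (same_succ ((hjh _ _).2 (same_symm e)))
      · -- both points are in the last, incomplete, node
        have hy : ¬ (y.val / 2 ^ (j + 1) + 1) * 2 ^ (j + 1) ≤ n := by
          rw [← show x.val / 2 ^ (j + 1) = y.val / 2 ^ (j + 1) from hxy]; exact hx
        have hlast : ∀ u : Fin n, ¬ (u.val / 2 ^ (j + 1) + 1) * 2 ^ (j + 1) ≤ n →
            u.val / 2 ^ (j + 1) = n / 2 ^ (j + 1) := by
          intro u hu
          apply le_antisymm (Nat.div_le_div_right u.2.le)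
          exact Nat.lt_succ_iff.1 (Nat.div_lt_of_lt_mul (by rw [mul_comm, Nat.succ_eq_add_one]; omega))
        have himg : ∀ u : Fin n, ¬ (u.val / 2 ^ (j + 1) + 1) * 2 ^ (j + 1) ≤ n →
            ¬ ((h u).val / 2 ^ (j + 1) + 1) * 2 ^ (j + 1) ≤ n := by
          intro u hu hle
          obtain ⟨w, -, hexw⟩ := exch _ hle
          have := (same_succ_of_exch (transport h⁻¹ (fun σ hσ => by simpa using hh' σ hσ) hjh' _ _ hexw)).2
          rw [Equiv.Perm.inv_eq_iff_eq.2 (rfl : h u = h u)] at this
          exact hu this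
        show (h x).val / 2 ^ (j + 1) = (h y).val / 2 ^ (j + 1)
        rw [hlast _ (himg x hx), hlast _ (himg y hy)]
    intro x y
    refine ⟨fun h => ?_, fwdj g hpos (fun σ h => (hg' σ).1 h) ih x y⟩
    have := fwdj g⁻¹ hneg (fun σ h => by rw [inv_inv]; exact hpos σ h) (fun a b => by rw [← ih]; simp) _ _ h
    simpa using this

/-- A self-normalizing p-subgroup is a Sylow subgroup. -/
lemma exists_sylow_eq {G : Type*} [Group G] [Finite G] {p : ℕ} [Fact p.Prime] {P : Subgroup G}
    (hP : IsPGroup p ↥P) (hN : Subgroup.normalizer (P : Set G) = P) : ∃ S : Sylow p G, (S : Subgroup G) = P := by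
  obtain ⟨S, hS⟩ := hP.exists_le_sylow
  refine ⟨S, ?_⟩
  rcases hS.eq_or_lt with h | h
  · exact h.symm
  exfalso
  haveI : Group.IsNilpotent ↥(S : Subgroup G) := S.isPGroup'.isNilpotent
  have hlt : P.subgroupOf (S : Subgroup G) < ⊤ := by
    rw [lt_top_iff_ne_top, Ne, Subgroup.subgroupOf_eq_top]
    exact fun h2 => absurd (le_antisymm h2 hS) h.ne'
  have := Group.normalizerCondition_of_isNilpotent (G := ↥(S : Subgroup G)) _ hlt
  rw [← Subgroup.subgroupOf_normalizer_eq hS, hN] at this
  exact lt_irrefl _ this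

/-- The even tree group as a subgroup of the alternating group. -/
def altTree (n : ℕ) : Subgroup ↥(alternatingGroup (Fin n)) := (treeGroup n).subgroupOf _

lemma mem_altTree {x : ↥(alternatingGroup (Fin n))} : x ∈ altTree n ↔ (x : Perm (Fin n)) ∈ treeGroup n :=
  Iff.rfl

theorem altTree_normalizer (hn : 6 ≤ n) :
    Subgroup.normalizer ((altTree n) : Set ↥(alternatingGroup (Fin n))) = altTree n := by
  refine le_antisymm (fun g hg => ?_) Subgroup.le_normalizer
  apply mem_treeGroup_of_normalizes hn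
  intro σ
  rw [Subgroup.mem_normalizer_iff] at hg
  constructor
  · rintro ⟨h1, h2⟩
    exact ⟨(hg ⟨σ, h2⟩).1 h1, (g * ⟨σ, h2⟩ * g⁻¹).2⟩
  · rintro ⟨h1, h2⟩
    have h3 : σ ∈ alternatingGroup (Fin n) := by
      simpa [mul_assoc] using mul_mem (mul_mem (inv_mem g.2) h2) g.2
    exact ⟨(hg ⟨σ, h3⟩).2 h1, h3⟩

theorem isPGroup_altTree (n : ℕ) : IsPGroup 2 ↥(altTree n) :=
  (isPGroup_treeGroup n).comap_subtype

theorem treeGroup_normalizer (hn : 6 ≤ n) :
    Subgroup.normalizer ((treeGroup n) : Set (Perm (Fin n))) = treeGroup n := by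
  refine le_antisymm (fun g hg => ?_) Subgroup.le_normalizer
  apply mem_treeGroup_of_normalizes hn
  intro σ
  rw [Subgroup.mem_normalizer_iff] at hg
  simp only [evenPart, Subgroup.mem_inf, Equiv.Perm.mem_alternatingGroup]
  rw [← hg σ, map_mul, map_mul, map_inv, mul_comm (Perm.sign g), mul_inv_cancel_right]

/-- Every Sylow 2-subgroup of the alternating group of degree at least six is self-normalizing. -/
theorem sylow_alternating_normalizer (hn : 6 ≤ n) (P : Sylow 2 ↥(alternatingGroup (Fin n))) :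
    Subgroup.normalizer ((P : Subgroup ↥(alternatingGroup (Fin n))) : Set ↥(alternatingGroup (Fin n))) = P := by
  obtain ⟨S, hS⟩ := exists_sylow_eq (isPGroup_altTree n) (altTree_normalizer hn)
  have hSN : Subgroup.normalizer ((S : Subgroup ↥(alternatingGroup (Fin n))) : Set ↥(alternatingGroup (Fin n))) = S := by
    rw [hS, altTree_normalizer hn]
  obtain ⟨g, rfl⟩ := MulAction.exists_smul_eq ↥(alternatingGroup (Fin n)) S P
  rw [Sylow.coe_subgroup_smul]
  ext x
  rw [Subgroup.mem_pointwise_smul_iff_inv_smul_mem]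
  conv_rhs => rw [← hSN]
  simp only [Subgroup.mem_normalizer_iff, Subgroup.mem_pointwise_smul_iff_inv_smul_mem, ← map_inv,
    MulAut.smul_def, MulAut.conj_apply, inv_inv]
  refine ⟨fun h y => ?_, fun h y => ?_⟩
  · have := h (g * y * g⁻¹)
    simpa [mul_assoc] using this
  · have := h (g⁻¹ * y * g)
    simpa [mul_assoc] using this

end CfsgLib.KnownSimple51.TreeSylow
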